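import Mathlib.Algebra.BigOperators.Intervals
import Mathlib.Algebra.Group.Subgroup.Basic
import Mathlib.Order.Interval.Finset.Nat
import Mathlib.Tactic.Abel
import Mathlib.Algebra.Group.Submonoid.BigOperators

/-!
# Mittag-Leffler towers of abelian groups
-/

set_option autoImplicit false

namespace K415.TowerML

universe u

variable {A : ℕ → Type u} [∀ n, AddCommGroup (A n)] (T : ∀ n m, A m →+ A n)

/-- Elements in all images. -/
def stable (n : ℕ) : AddSubgroup (A n) where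
  carrier := {z | ∀ m, n ≤ m → ∃ b, T n m b = z}
  add_mem' {a b} ha hb m hm := by
    obtain ⟨c, hc⟩ := ha m hm
    obtain ⟨d, hd⟩ := hb m hm
    exact ⟨c + d, by rw [map_add, hc, hd]⟩
  zero_mem' m _ := ⟨0, map_zero _⟩
  neg_mem' {a} ha m hm := by
    obtain ⟨c, hc⟩ := ha m hm
    exact ⟨-c, by rw [map_neg, hc]⟩

variable (hT1 : ∀ n a, T n n a = a)
  (hT2 : ∀ n m l, n ≤ m → m ≤ l → ∀ a, T n m (T m l a) = T n l a)
  (hML : ∀ n, ∃ m, n ≤ m ∧ ∀ m', m ≤ m' → ∀ a : A m, ∃ b : A m', T n m' b = T n m a)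

include hT2 hML in
/-- Images become stable. -/
theorem exists_mem_stable (n : ℕ) : ∃ m, n ≤ m ∧ ∀ l, m ≤ l → ∀ a : A l, T n l a ∈ stable T n := by
  obtain ⟨m, hnm, h⟩ := hML n
  refine ⟨m, hnm, fun l hl a l' hl' ↦ ?_⟩
  rcases le_total m l' with h1 | h1
  · obtain ⟨b, hb⟩ := h l' h1 (T m l a)
    exact ⟨b, by rw [hb, hT2 n m l hnm hl]⟩
  · exact ⟨T l' l a, hT2 n l' l hl' (h1.trans hl) a⟩

include hT2 hML in
/-- The stable images form a tower with surjective transition maps. -/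
theorem exists_lift_stable (n : ℕ) (z : A n) (hz : z ∈ stable T n) :
    ∃ w ∈ stable T (n + 1), T n (n + 1) w = z := by
  obtain ⟨m, hm, h⟩ := exists_mem_stable T hT2 hML (n + 1)
  obtain ⟨b, hb⟩ := hz m ((Nat.le_succ n).trans hm)
  exact ⟨T (n + 1) m b, h m le_rfl b, by rw [hT2 n (n + 1) m (Nat.le_succ n) hm, hb]⟩

include hT2 hML in
/-- Solutions of `x n - T x (n + 1) = y n` for stable `y`. -/
theorem exists_solution_stable (y : ∀ n, A n) (hy : ∀ n, y n ∈ stable T n) :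
    ∃ x : ∀ n, A n, ∀ n, x n - T n (n + 1) (x (n + 1)) = y n := by
  choose w hw hw' using fun n (z : stable T n) ↦ exists_lift_stable T hT2 hML n z.1 z.2
  let x : ∀ n, stable T n := fun n ↦ Nat.rec 0
    (fun n r ↦ ⟨w n (r - ⟨y n, hy n⟩), hw n (r - ⟨y n, hy n⟩)⟩) n
  refine ⟨fun n ↦ (x n).1, fun n ↦ ?_⟩
  change (x n).1 - T n (n + 1) (w n (x n - ⟨y n, hy n⟩)) = y n
  rw [hw' n]
  change (x n).1 - ((x n).1 - y n) = y n
  rw [sub_sub_cancel]

include hT1 hT2 hML in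
/-- Vanishing of `lim¹`. -/
theorem exists_solution (y : ∀ n, A n) :
    ∃ x : ∀ n, A n, ∀ n, x n - T n (n + 1) (x (n + 1)) = y n := by
  choose M hM hM' using exists_mem_stable T hT2 hML
  let m : ℕ → ℕ := fun n ↦ (Finset.range (n + 1)).sup M + n + 1
  have hm1 : ∀ n, n + 1 ≤ m n := fun n ↦ by simp only [m]; omega
  have hm2 : ∀ n, M n ≤ m n := fun n ↦ by
    have : M n ≤ (Finset.range (n + 1)).sup M := Finset.le_sup (Finset.self_mem_range_succ n)
    simp only [m]; omega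
  have hm3 : ∀ n, m n ≤ m (n + 1) := fun n ↦ by
    have : (Finset.range (n + 1)).sup M ≤ (Finset.range (n + 1 + 1)).sup M :=
      Finset.sup_mono (Finset.range_mono (Nat.le_succ _))
    simp only [m]; omega
  let x₀ : ∀ n, A n := fun n ↦ ∑ i ∈ Finset.Ico n (m n), T n i (y i)
  have hx₀ : ∀ n, x₀ n - T n (n + 1) (x₀ (n + 1)) =
      y n - ∑ i ∈ Finset.Ico (m n) (m (n + 1)), T n i (y i) := by
    intro n
    have h1 : T n (n + 1) (x₀ (n + 1)) = ∑ i ∈ Finset.Ico (n + 1) (m (n + 1)), T n i (y i) := by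
      simp only [x₀]
      rw [map_sum]
      refine Finset.sum_congr rfl fun i hi ↦ ?_
      exact hT2 n (n + 1) i (Nat.le_succ n) (Finset.mem_Ico.1 hi).1 _
    have h2 : x₀ n = y n + ∑ i ∈ Finset.Ico (n + 1) (m n), T n i (y i) := by
      simp only [x₀]
      rw [← Finset.sum_Ico_consecutive _ (Nat.le_succ n) (hm1 n), Nat.Ico_succ_singleton,
        Finset.sum_singleton, hT1]
    rw [h1, h2, ← Finset.sum_Ico_consecutive _ (hm1 n) (hm3 n)]
    abel
  obtain ⟨x₁, hx₁⟩ := exists_solution_stable T hT2 hML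
    (fun n ↦ ∑ i ∈ Finset.Ico (m n) (m (n + 1)), T n i (y i)) (fun n ↦ by
      refine sum_mem fun i hi ↦ ?_
      exact hM' n i ((hm2 n).trans (Finset.mem_Ico.1 hi).1) _)
  refine ⟨fun n ↦ x₀ n + x₁ n, fun n ↦ ?_⟩
  rw [map_add]
  have h3 : x₀ n + x₁ n - (T n (n + 1) (x₀ (n + 1)) + T n (n + 1) (x₁ (n + 1))) =
      (x₀ n - T n (n + 1) (x₀ (n + 1))) + (x₁ n - T n (n + 1) (x₁ (n + 1))) := by abel
  rw [h3, hx₀, hx₁, sub_add_cancel]

include hT1 hT2 hML in
/-- Stable elements are components of compatible families. -/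
theorem exists_compatible (n : ℕ) (z : A n) (hz : z ∈ stable T n) :
    ∃ x : ∀ i, A i, (∀ i, T i (i + 1) (x (i + 1)) = x i) ∧ x n = z := by
  choose w hw hw' using fun n (z : stable T n) ↦ exists_lift_stable T hT2 hML n z.1 z.2
  let s : ∀ j, stable T (n + j) := fun j ↦ Nat.rec ⟨z, hz⟩ (fun j r ↦ ⟨w (n + j) r, hw (n + j) r⟩) j
  have hs : ∀ j, T (n + j) (n + j + 1) (s (j + 1)).1 = (s j).1 := fun j ↦ hw' (n + j) (s j)
  have h0 : ∀ l, T n (n + l) (s l).1 = z := by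
    intro l
    induction l with
    | zero => exact hT1 n z
    | succ l ih =>
      rw [← ih, ← hs l]
      exact (hT2 n (n + l) (n + l + 1) (by omega) (Nat.le_succ _) _).symm
  refine ⟨fun i ↦ T i (n + i) (s i).1, fun i ↦ ?_, h0 n⟩
  change T i (i + 1) (T (i + 1) (n + (i + 1)) (s (i + 1)).1) = T i (n + i) (s i).1
  rw [hT2 i (i + 1) (n + (i + 1)) (Nat.le_succ _) (by omega), ← hs i]
  exact (hT2 i (n + i) (n + i + 1) (by omega) (Nat.le_succ _) _).symm

end K415.TowerML
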