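import Groth.Agent.Coh.K415.TowerTfae2
import Groth.Agent.Dcoh.StalkT

/-!
# Comparison of `(lim F) ⊗ E` and `lim (F ⊗ E)`
-/

set_option autoImplicit false
universe u v w
open CategoryTheory CategoryTheory.Limits AlgebraicGeometry Opposite TopologicalSpace

namespace K415.TowerSheaf

open Groth.Agent.Ega1.SubSheaf Groth.Agent.Ega1.LocMod Groth.Agent.FormalB.SysSect Groth.Agent

variable {X : Scheme.{u}}

/-- For a Mittag-Leffler tower of quasi-coherent modules, over affine opens sections in the stable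
image lift to the limit. -/
theorem exists_limit_lift (F : ℕᵒᵖ ⥤ X.Modules) (hF : ∀ n : ℕ, Coh.IsQCoh (F.obj (op n)))
    (hML : IsML F) (n : ℕ) : ∃ (m : ℕ) (h : n ≤ m), ∀ (U : X.Opens) (_ : IsAffineOpen U)
      (a : Γ(F.obj (op m), U)), ∃ y : Γ(limit F, U),
        (limit.π F (op n)).app U y = (trL F h).app U a := by
  obtain ⟨m, hm, h⟩ := hML n
  refine ⟨m, hm, fun U hU a ↦ ?_⟩
  have hst : secT F U n m a ∈ TowerML.stable (secT F U) n := by
    intro l hl
    rcases le_total m l with h1 | h1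
    · have h2 := range_app_imageSubobject (trL F hm) (hF _) (hF _) hU
      have h3 := range_app_imageSubobject (trL F (hm.trans h1)) (hF _) (hF _) hU
      have h4 : imageSubobject (trL F (hm.trans h1)) = imageSubobject (trL F hm) := h l h1
      have h5 : secT F U n m a ∈ Set.range ((trL F (hm.trans h1)).app U) := by
        rw [h3, h4, ← h2]
        exact ⟨a, (secT_apply F U hm a).symm⟩
      obtain ⟨b, hb⟩ := h5
      exact ⟨b, by rw [secT_apply F U (hm.trans h1), hb]⟩
    · exact ⟨secT F U l m a, secT_comp F U n l m hl h1 a⟩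
  obtain ⟨x, hx, hxn⟩ := TowerML.exists_compatible (secT F U) (secT_self F U) (secT_comp F U)
    (secT_ml F hF hML hU) n _ hst
  obtain ⟨y, hy⟩ := exists_limit_section F U x (fun i ↦ by
    rw [← hx i, secT_apply F U (Nat.le_succ i)])
  exact ⟨y, by rw [hy n, hxn, secT_apply F U hm]⟩

/-- If moreover `lim F ⟶ F n` is a monomorphism then some `F m ⟶ F n` factors through it. -/
theorem exists_factor (F : ℕᵒᵖ ⥤ X.Modules) (hF : ∀ n : ℕ, Coh.IsQCoh (F.obj (op n)))
    (hML : IsML F) (n : ℕ) [Mono (limit.π F (op n))] :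
    ∃ (m : ℕ) (h : n ≤ m) (r : F.obj (op m) ⟶ limit F), r ≫ limit.π F (op n) = trL F h := by
  obtain ⟨m, h, hlift⟩ := exists_limit_lift F hF hML n
  refine ⟨m, h, ?_⟩
  refine Sga2lef.H102.Lift.exists_lift (limit.π F (op n)) (trL F h) fun V y x hx ↦ ?_
  obtain ⟨_, ⟨W : X.Opens, hW, rfl⟩, hxW, hWV⟩ := X.isBasis_affineOpens.exists_subset_of_mem_open
    hx V.2
  obtain ⟨z, hz⟩ := hlift W hW (res _ hWV y)
  exact ⟨W, hWV, hxW, z, by rw [hz]; exact app_res _ _ _⟩

section Tensor

variable (E : X.Modules)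

/-- The tensor functor as a flip of the bifunctor. -/
noncomputable def tensorRightIso : LimSh.tensorRight E ≅ DCoh.tensorBi.flip.obj E :=
  NatIso.ofComponents (fun _ => Iso.refl _) (fun f => by
    change (LimSh.tensorRight E).map f ≫ 𝟙 _ = 𝟙 _ ≫ (DCoh.tensorBi.flip.obj E).map f
    rw [Category.comp_id, Category.id_comp]
    rfl)

theorem preservesMono_tensorRight (hE : FlatMod.IsFlat E) :
    (LimSh.tensorRight E).PreservesMonomorphisms := by
  have h1 := Dcoh.Stalk.preservesFiniteLimits_tensorBi_flip_obj E hE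
  have h2 : PreservesFiniteLimits (LimSh.tensorRight E) :=
    preservesFiniteLimits_of_natIso (tensorRightIso E).symm
  infer_instance

end Tensor

theorem mono_post (F : ℕᵒᵖ ⥤ X.Modules) (T : X.Modules ⥤ X.Modules) [T.PreservesMonomorphisms]
    (n : ℕ) [Mono (limit.π F (op n))] : Mono (limit.post F T) := by
  have h1 : limit.post F T ≫ limit.π (F ⋙ T) (op n) = T.map (limit.π F (op n)) :=
    limit.post_π F T (op n)
  have h2 : Mono (limit.post F T ≫ limit.π (F ⋙ T) (op n)) := by
    rw [h1]; infer_instance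
  exact mono_of_mono _ (limit.π (F ⋙ T) (op n))

theorem isIso_post (F : ℕᵒᵖ ⥤ X.Modules) (T : X.Modules ⥤ X.Modules) [T.PreservesMonomorphisms]
    (N : ℕ) (hN : ∀ n, N ≤ n → Mono (limit.π F (op n)))
    (hr : ∀ n, N ≤ n → ∃ (m : ℕ) (h : n ≤ m) (r : F.obj (op m) ⟶ limit F),
      r ≫ limit.π F (op n) = trL F h) : IsIso (limit.post F T) := by
  have hpost : ∀ n : ℕ, limit.post F T ≫ limit.π (F ⋙ T) (op n) = T.map (limit.π F (op n)) :=
    fun n ↦ limit.post_π F T (op n)
  have hw : ∀ (n m : ℕ) (h : n ≤ m), limit.π (F ⋙ T) (op m) ≫ T.map (trL F h) =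
      limit.π (F ⋙ T) (op n) := fun n m h ↦ limit.w (F ⋙ T) (homOfLE h).op
  have hw' : ∀ (n m : ℕ) (h : n ≤ m), T.map (limit.π F (op m)) ≫ T.map (trL F h) =
      T.map (limit.π F (op n)) := fun n m h ↦ by
    rw [← T.map_comp]; congr 1; exact limit.w F (homOfLE h).op
  -- `β n`
  have hβ : ∀ n, N ≤ n → ∃ β : limit (F ⋙ T) ⟶ T.obj (limit F),
      β ≫ T.map (limit.π F (op n)) = limit.π (F ⋙ T) (op n) := by
    intro n hn
    obtain ⟨m, h, r, hr⟩ := hr n hn
    refine ⟨limit.π (F ⋙ T) (op m) ≫ T.map r, ?_⟩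
    rw [Category.assoc, ← T.map_comp, hr, hw]
  obtain ⟨β, hβN⟩ := hβ N le_rfl
  have hall : ∀ j : ℕ, β ≫ T.map (limit.π F (op j)) = limit.π (F ⋙ T) (op j) := by
    intro j
    rcases le_total j N with hj | hj
    · rw [← hw' j N hj, ← Category.assoc, hβN, hw]
    · obtain ⟨β', hβ'⟩ := hβ j hj
      have h1 : β' = β := by
        have := hN N le_rfl
        rw [← cancel_mono (T.map (limit.π F (op N))), hβN, ← hw' N j hj, ← Category.assoc, hβ', hw]
      rw [← h1, hβ']
  have hsec : β ≫ limit.post F T = 𝟙 _ := by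
    apply limit.hom_ext
    intro j
    rw [Category.assoc, limit.post_π, Category.id_comp]
    exact hall j.unop
  have := hN N le_rfl
  have hm := mono_post F T N
  have he : IsSplitEpi (limit.post F T) := ⟨⟨⟨β, hsec⟩⟩⟩
  exact isIso_of_mono_of_isSplitEpi _

end K415.TowerSheaf
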