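import Groth.Agent.Coh.K415.ZMT
import Groth.Agent.Ega2.Normal

/-!
# Birational morphisms to normal schemes: the integral closedness condition of Zariski's main theorem
-/

set_option autoImplicit false
universe u

open CategoryTheory CategoryTheory.Limits AlgebraicGeometry

namespace K415.ZMT

theorem mem_range_of_integral {A B : Type u} [CommRing A] [IsDomain A] [IsIntegrallyClosed A]
    [CommRing B] [IsDomain B] (φ : A →+* B) (hφ : Function.Injective φ) (x : B)
    (hx : φ.IsIntegralElem x) (a b : A) (hb : b ≠ 0) (h : x * φ b = φ a) : x ∈ Set.range φ := by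
  let K := FractionRing A
  let L := FractionRing B
  let ψ : K →+* L := IsFractionRing.map (A := A) (B := B) (K := K) (L := L) hφ
  have hψ : ∀ c : A, ψ (algebraMap A K c) = algebraMap B L (φ c) := fun c =>
    IsLocalization.map_eq _ c
  have hbK : algebraMap A K b ≠ 0 := by
    rwa [Ne, FaithfulSMul.algebraMap_eq_zero_iff]
  let z : K := algebraMap A K a / algebraMap A K b
  have hz : ψ z = algebraMap B L x := by
    have h1 : z * algebraMap A K b = algebraMap A K a := div_mul_cancel₀ _ hbK
    have h2 := congrArg ψ h1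
    rw [map_mul, hψ, hψ, ← h, map_mul] at h2
    refine mul_right_cancel₀ ?_ h2
    rw [Ne, FaithfulSMul.algebraMap_eq_zero_iff]
    exact fun h0 => hb (hφ (h0.trans (map_zero φ).symm))
  have hint : IsIntegral A z := by
    obtain ⟨P, hP, hP'⟩ := hx
    refine ⟨P, hP, ψ.injective ?_⟩
    have hcomp : ψ.comp (algebraMap A K) = (algebraMap B L).comp φ := RingHom.ext hψ
    rw [map_zero, Polynomial.hom_eval₂, hcomp, hz, ← Polynomial.hom_eval₂, hP', map_zero]
  obtain ⟨c, hc⟩ := IsIntegrallyClosed.algebraMap_eq_of_integral hint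
  refine ⟨c, IsFractionRing.injective B L ?_⟩
  rw [← hψ, hc, hz]

variable {X Y : Scheme.{u}} {f : X ⟶ Y} [IsIntegral X] [IsIntegral Y]

/-- `Y` normal, `f` birational: `Γ(Y, U)` is integrally closed in `Γ(X, f⁻¹ U)`. -/
theorem intClosedOn_of_normal (hY : Pi1.IsNormalScheme Y)
    (hξ : f (genericPoint ↥X) = genericPoint ↥Y)
    (hbir : Function.Bijective (f.stalkMap (genericPoint ↥X))) : IntClosedOn f := by
  intro U hU
  by_cases hne : Nonempty U
  · have hgU : genericPoint ↥Y ∈ U :=
      ((genericPoint_spec Y).mem_open_set_iff U.isOpen).mpr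
        (by obtain ⟨⟨y, hy⟩⟩ := hne; simpa using ⟨y, hy⟩)
    have hW : genericPoint ↥X ∈ f ⁻¹ᵁ U := by
      change f (genericPoint ↥X) ∈ U
      rw [hξ]; exact hgU
    have : Nonempty (f ⁻¹ᵁ U) := ⟨⟨_, hW⟩⟩
    have hinj := appLE_injective hbir.1 (le_refl (f ⁻¹ᵁ U)) hW
    have he : f.appLE U (f ⁻¹ᵁ U) le_rfl = f.app U := (Scheme.Hom.app_eq_appLE f).symm
    have := Groth.Agent.Ega2.Normal.isIntegrallyClosed_of_isAffineOpen hY hU hne
    refine ⟨by rw [he] at hinj; exact hinj, fun x hx => ?_⟩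
    obtain ⟨a, b, hb, hab⟩ := exists_frac hbir hU (le_refl (f ⁻¹ᵁ U)) hW x
    rw [he] at hab hinj
    exact mem_range_of_integral (f.app U).hom hinj x hx a b hb hab
  · have hU0 : U = ⊥ := by
      ext y
      simp only [TopologicalSpace.Opens.coe_bot, Set.mem_empty_iff_false, iff_false]
      exact fun hy => hne ⟨⟨y, hy⟩⟩
    subst hU0
    have h1 : Subsingleton Γ(X, f ⁻¹ᵁ ⊥) := by
      have h2 : f ⁻¹ᵁ (⊥ : Y.Opens) = ⊥ := rfl
      rw [h2]
      exact CommRingCat.subsingleton_of_isTerminal (X.sheaf.isTerminalOfEmpty)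
    have h3 : Subsingleton Γ(Y, ⊥) :=
      CommRingCat.subsingleton_of_isTerminal (Y.sheaf.isTerminalOfEmpty)
    exact ⟨fun a b _ => Subsingleton.elim _ _, fun x _ => ⟨0, Subsingleton.elim _ _⟩⟩

/-- A proper morphism mapping the generic point to the generic point is surjective. -/
theorem surjective_of_proper [IsProper f] (hξ : f (genericPoint ↥X) = genericPoint ↥Y) :
    Function.Surjective f := by
  intro y
  have h1 : IsClosed (Set.range f) := f.isClosedMap.isClosed_range
  have h2 : closure {genericPoint ↥Y} ⊆ Set.range f :=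
    h1.closure_subset_iff.2 (by rintro _ rfl; exact ⟨_, hξ⟩)
  have h3 : y ∈ closure {genericPoint ↥Y} := by
    rw [(genericPoint_spec Y).def]; trivial
  exact h2 h3

/-- The codimension two statement. -/
theorem two_le_ringKrullDim [IsLocallyNoetherian Y] [IsProper f]
    (hξ : f (genericPoint ↥X) = genericPoint ↥Y)
    (hbir : Function.Bijective (f.stalkMap (genericPoint ↥X))) (V : Y.Opens)
    (hV : ∀ x : X, f x ∈ V ↔ f.QuasiFiniteAt x) (y : Y) (hy : y ∉ (V : Set Y)) :
    2 ≤ ringKrullDim (Y.presheaf.stalk y) := by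
  by_contra hcon
  obtain ⟨x, rfl⟩ := surjective_of_proper hξ y
  refine hy ((hV x).2 (quasiFiniteAt_of_dim_le_one hbir x ?_))
  rw [not_le] at hcon
  have h0 : (0 : WithBot ℕ∞) ≤ ringKrullDim (Y.presheaf.stalk (f x)) := ringKrullDim_nonneg_of_nontrivial
  generalize ringKrullDim (Y.presheaf.stalk (f x)) = d at hcon h0
  induction d with
  | bot => simp at h0
  | coe d =>
    have h1 : d < 2 := WithBot.coe_lt_coe.1 (show (d : WithBot ℕ∞) < ((2 : ℕ∞) : WithBot ℕ∞) from hcon)
    have h2 : d ≤ 1 := by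
      have h3 : d < 1 + 1 := by rwa [one_add_one_eq_two]
      exact (ENat.lt_add_one_iff (by simp)).1 h3
    exact_mod_cast h2

end K415.ZMT
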