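import Groth.Agent.VarietyB.HHPush
import Groth.Agent.Cohder.RDLES
import Groth.Agent.Cohder.RDAcyc

/-!
# Degenerate Leray and the first edge map, linear forms

`f : X ⟶ Y` over `Spec A`.

* `exists_equiv_of`: `H^n(Y, f_* M) ≃ₗ[A] H^n(X, M)` for `M` in a class `P` such that for every short exact sequence
  `0 → M → I → Q → 0` with `I` injective and `M` in `P`, `Q` is in `P` and `0 → f_* M → f_* I → f_* Q → 0` is exact.
* `exists_equiv_of_isAcyc`: in particular if `R^i f_* M = 0` for `i > 0`.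
* `exists_injective_one`: `H^1(Y, f_* M) → H^1(X, M)` injective, linear.
-/

set_option autoImplicit false
universe u
open CategoryTheory CategoryTheory.Limits AlgebraicGeometry Opposite TopologicalSpace

namespace K415.LerayGen

open Groth.Agent.CohqB Groth.Agent.CohqA Groth.Agent.VarietyB.HHLes Groth.Agent.VarietyB.HHPush
open Groth.Agent

variable {X Y : Scheme.{u}} (f : X ⟶ Y)

section Main

variable (A : Type u) [CommRing A] [X.Over (Spec (CommRingCat.of A))]
  [Y.Over (Spec (CommRingCat.of A))]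

variable (hf : f ≫ (Y ↘ Spec (CommRingCat.of A)) = X ↘ Spec (CommRingCat.of A))

include hf in
/-- Degenerate Leray for a class of modules. -/
theorem exists_equiv_of (P : X.Modules → Prop)
    (hP : ∀ S : ShortComplex X.Modules, S.ShortExact → Injective S.X₂ → P S.X₁ →
      P S.X₃ ∧ (S.map (Scheme.Modules.pushforward f)).ShortExact) (n : ℕ) :
    ∀ (M : X.Modules), P M →
    Nonempty (Hn A Y ((Scheme.Modules.pushforward f).obj M) n ≃ₗ[A] Hn A X M n) := by
  have := enoughInjectives X
  induction n with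
  | zero => exact fun M _ ↦ ⟨zeroEquiv f A hf M⟩
  | succ n ih =>
    intro M hM
    obtain ⟨S, hS, hI, rfl⟩ := SheafH.exists_injective_shortExact M
    obtain ⟨hQ, hS'⟩ := hP S hS hI hM
    have hfl : TopCat.Sheaf.IsFlasque (X := X.toTopCat) (Coh.toAb S.X₂) :=
      Ega3B.InjMod.isFlasque_of_injective S.X₂
    have hfl' := isFlasque_push f S.X₂ hfl
    have h1 := cokEquiv A hS n (Hn_eq_zero_of_flasque A S.X₂ hfl n)
    have h2 := cokEquiv A hS' n (Hn_eq_zero_of_flasque A _ hfl' n)
    cases n with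
    | zero =>
      have hmap : (LinearMap.range (Hmap A ((Scheme.Modules.pushforward f).map S.g) 0)).map
          (zeroEquiv f A hf S.X₃).toLinearMap = LinearMap.range (Hmap A S.g 0) := by
        ext z
        constructor
        · rintro ⟨y, ⟨x, rfl⟩, rfl⟩
          exact ⟨zeroEquiv f A hf S.X₂ x, (zeroEquiv_naturality f A hf S.g x).symm⟩
        · rintro ⟨x, rfl⟩
          refine ⟨Hmap A ((Scheme.Modules.pushforward f).map S.g) 0
            ((zeroEquiv f A hf S.X₂).symm x), ⟨_, rfl⟩, ?_⟩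
          refine (zeroEquiv_naturality f A hf S.g _).trans ?_
          rw [LinearEquiv.apply_symm_apply]
      have e0 : (Hn A Y ((Scheme.Modules.pushforward f).obj S.X₃) 0 ⧸
          LinearMap.range (Hmap A ((Scheme.Modules.pushforward f).map S.g) 0)) ≃ₗ[A]
          (Hn A X S.X₃ 0 ⧸ LinearMap.range (Hmap A S.g 0)) :=
        Submodule.Quotient.equiv _ _ (zeroEquiv f A hf S.X₃) hmap
      have e1 : Hn A Y ((Scheme.Modules.pushforward f).obj S.X₁) (0 + 1) ≃ₗ[A]
        (Hn A Y ((Scheme.Modules.pushforward f).obj S.X₃) 0 ⧸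
          LinearMap.range (Hmap A ((Scheme.Modules.pushforward f).map S.g) 0)) := h2.symm
      exact ⟨e1.trans (e0.trans h1)⟩
    | succ n =>
      obtain ⟨e⟩ := ih S.X₃ hQ
      exact ⟨(shiftEquiv A hS' (n + 1) (Hn_eq_zero_of_flasque A _ hfl' n)
          (Hn_eq_zero_of_flasque A _ hfl' (n + 1))).symm.trans (e.trans
        (shiftEquiv A hS (n + 1) (Hn_eq_zero_of_flasque A _ hfl n)
          (Hn_eq_zero_of_flasque A _ hfl (n + 1))))⟩

include hf in
/-- Degenerate Leray: `R^i f_* M = 0` for `i > 0`. -/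
theorem exists_equiv_of_isAcyc [HasInjectiveResolutions X.Modules] (M : X.Modules)
    (hM : Cohder.RDAcyc.IsAcyc (Scheme.Modules.pushforward f) M) (n : ℕ) :
    Nonempty (Coh.HH Y ((Scheme.Modules.pushforward f).obj M) n ≃ₗ[A] Coh.HH X M n) := by
  have key : ∀ S : ShortComplex X.Modules, S.ShortExact → Injective S.X₂ →
      Cohder.RDAcyc.IsAcyc (Scheme.Modules.pushforward f) S.X₁ →
      Cohder.RDAcyc.IsAcyc (Scheme.Modules.pushforward f) S.X₃ ∧
        (S.map (Scheme.Modules.pushforward f)).ShortExact := by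
    intro S hS hI h
    have h1 : Cohder.RDAcyc.IsAcyc (Scheme.Modules.pushforward f) S.X₂ :=
      Cohder.RDAcyc.isAcyc_injective _ S.X₂
    exact ⟨Cohder.RDAcyc.isAcyc_X₃ _ hS h h1, Cohder.RDAcyc.map_shortExact _ hS (h 1 one_pos)⟩
  obtain ⟨e⟩ := exists_equiv_of f A hf _ key n M hM
  exact ⟨(toHH A _ n).symm.trans (e.trans (toHH A M n))⟩

include hf in
/-- The first edge map of the Leray spectral sequence is injective. -/
theorem exists_injective_one (M : X.Modules) :
    ∃ φ : Coh.HH Y ((Scheme.Modules.pushforward f).obj M) 1 →ₗ[A] Coh.HH X M 1,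
      Function.Injective φ := by
  have := enoughInjectives X
  obtain ⟨S, hS, hI, rfl⟩ := SheafH.exists_injective_shortExact M
  have hfl : TopCat.Sheaf.IsFlasque (X := X.toTopCat) (Coh.toAb S.X₂) :=
    Ega3B.InjMod.isFlasque_of_injective S.X₂
  have hfl' := isFlasque_push f S.X₂ hfl
  have hmf : Mono S.f := hS.mono_f
  let P := Scheme.Modules.pushforward f
  have hmPf : Mono (P.map S.f) := inferInstance
  have hex : (S.map P).Exact :=
    hS.exact.map_of_mono_of_preservesKernel _ hS.mono_f inferInstance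
  let T : ShortComplex Y.Modules := ShortComplex.mk (P.map S.f) (cokernel.π (P.map S.f))
    (cokernel.condition _)
  have hT : T.ShortExact :=
    { exact := ShortComplex.exact_cokernel _
      mono_f := hmPf
      epi_g := inferInstanceAs (Epi (cokernel.π _)) }
  have hw : P.map S.f ≫ P.map S.g = 0 := by rw [← P.map_comp, S.zero, P.map_zero]
  let j : T.X₃ ⟶ P.obj S.X₃ := cokernel.desc (P.map S.f) (P.map S.g) hw
  have hj : T.g ≫ j = P.map S.g := cokernel.π_desc _ _ _
  have hjm : Mono j := by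
    have h1 : Mono (cokernel.desc (S.map P).f (S.map P).g (S.map P).zero) :=
      hex.mono_cokernelDesc
    exact h1
  -- degree zero injectivity
  have hj0 : Function.Injective (Hmap A j 0) := by
    intro a b hab
    have h1 : j.app ⊤ (CurvesB.HZero.equivAdd T.X₃ a) = j.app ⊤ (CurvesB.HZero.equivAdd T.X₃ b) :=
      (CurvesB.HZero.equivAdd_map j a).symm.trans ((congrArg
        (CurvesB.HZero.equivAdd (P.obj S.X₃)) hab).trans (CurvesB.HZero.equivAdd_map j b))
    have h2 : Function.Injective (j.app ⊤) := by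
      have h1 : Mono ((Scheme.Modules.toPresheaf Y).map j) := inferInstance
      have h2 : Mono (((Scheme.Modules.toPresheaf Y).map j).app (op ⊤)) := inferInstance
      exact (AddCommGrpCat.mono_iff_injective _).1 h2
    exact (CurvesB.HZero.equivAdd T.X₃).injective (h2 h1)
  have h1 := cokEquiv A hS 0 (Hn_eq_zero_of_flasque A S.X₂ hfl 0)
  have h2 := cokEquiv A hT 0 (Hn_eq_zero_of_flasque A _ hfl' 0)
  let ψ : Hn A Y T.X₃ 0 →ₗ[A] Hn A X S.X₃ 0 :=
    (zeroEquiv f A hf S.X₃).toLinearMap ∘ₗ Hmap A j 0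
  have hψ : Function.Injective ψ := (zeroEquiv f A hf S.X₃).injective.comp hj0
  have hψg : ∀ x : Hn A Y T.X₂ 0, ψ (Hmap A T.g 0 x) = Hmap A S.g 0 (zeroEquiv f A hf S.X₂ x) := by
    intro x
    have h3 : Hmap A j 0 (Hmap A T.g 0 x) = Hmap A (P.map S.g) 0 x := by
      rw [← hj]
      exact (LinearMap.congr_fun (Hmap_comp A T.g j 0) x).symm
    change zeroEquiv f A hf S.X₃ (Hmap A j 0 (Hmap A T.g 0 x)) = _
    rw [h3]
    exact zeroEquiv_naturality f A hf S.g x
  have hle : LinearMap.range (Hmap A T.g 0) ≤ (LinearMap.range (Hmap A S.g 0)).comap ψ := by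
    rintro _ ⟨x, rfl⟩
    exact ⟨_, (hψg x).symm⟩
  have hge : (LinearMap.range (Hmap A S.g 0)).comap ψ ≤ LinearMap.range (Hmap A T.g 0) := by
    rintro t ⟨x, hx⟩
    refine ⟨(zeroEquiv f A hf S.X₂).symm x, hψ ?_⟩
    refine (hψg _).trans ?_
    rw [LinearEquiv.apply_symm_apply]
    exact hx
  let Φ := Submodule.mapQ _ _ ψ hle
  have hΦ : Function.Injective Φ := by
    rw [← LinearMap.ker_eq_bot, Submodule.ker_mapQ, ← le_antisymm hle hge]
    exact Submodule.mkQ_map_self _
  refine ⟨(toHH A S.X₁ 1).toLinearMap ∘ₗ h1.toLinearMap ∘ₗ Φ ∘ₗ h2.symm.toLinearMap ∘ₗ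
    (toHH A _ 1).symm.toLinearMap, ?_⟩
  exact (toHH A S.X₁ 1).injective.comp (h1.injective.comp (hΦ.comp
    (h2.symm.injective.comp (toHH A _ 1).symm.injective)))

end Main

end K415.LerayGen
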