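import Groth.Agent.Vancyc.H878.OmegaRank
import Groth.Agent.Vancyc.H878.RelOmega

/-!
# Absolute differentials of a field with finite Frobenius

`exists_free`: `Ω_{k/ℤ}` is a free module of finite rank on `Spec k` if the Frobenius of `k` is finite.
-/

set_option autoImplicit false
universe u

open CategoryTheory CategoryTheory.Limits AlgebraicGeometry TopologicalSpace Opposite
open Groth.Agent.Sga67.Sec Groth.Agent.Sga67.LocBasis Groth.Agent.CurvesB.OmegaDer
open Groth.Agent.Vancyc.H878

namespace K415.AbsOmega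

section Alg

variable {A : Type*} [CommRing A] (p : ℕ)

/-- finiteness of a ring homomorphism in coordinates -/
theorem exists_coords {A B : Type*} [CommRing A] [CommRing B] (φ : A →+* B) (h : φ.Finite) :
    ∃ s : Finset B, ∀ x : B, ∃ c : B → A, x = ∑ b ∈ s, φ (c b) * b := by
  let := φ.toAlgebra
  have h' : Module.Finite A B := h
  obtain ⟨s, hs⟩ := h'.fg_top
  refine ⟨s, fun x => ?_⟩
  have hx : x ∈ Submodule.span A (s : Set B) := by rw [hs]; trivial
  rw [Submodule.mem_span_finset] at hx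
  obtain ⟨c, -, hc⟩ := hx
  refine ⟨c, hc.symm.trans (Finset.sum_congr rfl fun b _ => ?_)⟩
  rw [Algebra.smul_def]
  rfl

/-- finiteness of Frobenius in coordinates -/
theorem exists_frob [ExpChar A p] (h : (frobenius A p).Finite) :
    ∃ s : Finset A, ∀ x : A, ∃ c : A → A, x = ∑ b ∈ s, c b ^ p * b :=
  exists_coords _ h

theorem finite_kaehler (R : Type*) [CommRing R] [Algebra R A] [Fact p.Prime] [CharP A p] [ExpChar A p]
    (h : (frobenius A p).Finite) : Module.Finite A (Ω[A⁄R]) := by
  classical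
  obtain ⟨s, hs⟩ := exists_frob p h
  refine ⟨⟨s.image (KaehlerDifferential.D R A), ?_⟩⟩
  rw [_root_.eq_top_iff, ← KaehlerDifferential.span_range_derivation, Submodule.span_le]
  rintro _ ⟨x, rfl⟩
  obtain ⟨c, hc⟩ := hs x
  rw [hc, map_sum]
  refine Submodule.sum_mem _ fun b hb => ?_
  rw [Derivation.leibniz, Derivation.leibniz_pow]
  have h0 : ∀ y : Ω[A⁄R], p • y = 0 := fun y => by
    rw [← Nat.cast_smul_eq_nsmul A, CharP.cast_eq_zero, zero_smul]
  rw [h0, smul_zero, add_zero]
  refine Submodule.smul_mem _ _ (Submodule.subset_span ?_)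
  rw [Finset.coe_image]
  exact ⟨b, hb, rfl⟩

theorem finite_frobenius_equiv {B : Type*} [CommRing B] [ExpChar A p] [ExpChar B p] (e : A ≃+* B)
    (h : (frobenius A p).Finite) : (frobenius B p).Finite := by
  have h1 : frobenius B p = (e.toRingHom.comp (frobenius A p)).comp e.symm.toRingHom := by
    ext x
    simp [frobenius_def]
  rw [h1]
  refine RingHom.Finite.comp (RingHom.Finite.comp ?_ h) ?_
  · exact RingHom.Finite.of_surjective _ e.surjective
  · exact RingHom.Finite.of_surjective _ e.symm.surjective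

end Alg

variable {X Y : Scheme.{u}}

/-- `Ω_{X/Y}` is free of finite rank for `X = Spec k`, `k` a field with finite Frobenius, and `Y` affine. -/
theorem exists_free {k : Type u} [Field k] (p : ℕ) [Fact p.Prime] [CharP k p] (hF : (frobenius k p).Finite)
    {Y : Scheme.{u}} [IsAffine Y] (f : Spec (CommRingCat.of k) ⟶ Y) :
    ∃ r : ℕ, Nonempty (Omega.sheaf f ≅ FlatMod.freeMod (Spec (CommRingCat.of k)) r) := by
  have hU : IsAffineOpen (⊤ : Y.Opens) := isAffineOpen_top Y
  have hW : IsAffineOpen (⊤ : (Spec (CommRingCat.of k)).Opens) := isAffineOpen_top _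
  have e : (⊤ : (Spec (CommRingCat.of k)).Opens) ≤ f ⁻¹ᵁ ⊤ := le_top
  let := algX f e
  let := modO f e
  have := isScalarTower f e
  let i : k ≃+* Γ(Spec (CommRingCat.of k), ⊤) :=
    (Scheme.ΓSpecIso (CommRingCat.of k)).symm.commRingCatIsoToRingEquiv
  have hchar : CharP Γ(Spec (CommRingCat.of k), ⊤) p := charP_of_injective_ringHom i.injective p
  have hfld : IsField Γ(Spec (CommRingCat.of k), ⊤) := i.symm.isField (Field.toIsField k)
  let hfield := hfld.toField
  have hexp : ExpChar Γ(Spec (CommRingCat.of k), ⊤) p := inferInstance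
  have hfr : (frobenius Γ(Spec (CommRingCat.of k), ⊤) p).Finite := finite_frobenius_equiv p i hF
  have hfin : Module.Finite Γ(Spec (CommRingCat.of k), ⊤)
      (Ω[Γ(Spec (CommRingCat.of k), ⊤)⁄Γ(Y, ⊤)]) := finite_kaehler p _ hfr
  have hfree : Module.Free Γ(Spec (CommRingCat.of k), ⊤)
      (Ω[Γ(Spec (CommRingCat.of k), ⊤)⁄Γ(Y, ⊤)]) := Module.Free.of_divisionRing _ _
  let b := (Module.finBasis Γ(Spec (CommRingCat.of k), ⊤) Ω[Γ(Spec (CommRingCat.of k), ⊤)⁄Γ(Y, ⊤)]).map
    (LinearEquiv.ofBijective _ (bijective_lift f e hU hW))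
  exact ⟨_, nonempty_iso_free (OmegaRank.isLocBasis_of_isQCoh (OmegaRank.isQCoh_omega f) hW b)⟩

end K415.AbsOmega
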