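import Mathlib.AlgebraicGeometry.FunctionField

/-!
# Morphisms which are isomorphisms over a nonempty open are birational
-/

set_option autoImplicit false
universe u

open CategoryTheory CategoryTheory.Limits AlgebraicGeometry

namespace K415.Birat

/-- An isomorphism over a nonempty open subset of the target, integral schemes: the generic point maps to the
generic point and the stalk map there is an isomorphism. -/
theorem generic_of_isIso_restrict {X Y : Scheme.{u}} [IsIntegral X] [IsIntegral Y] (f : X ⟶ Y)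
    (W : Y.Opens) (hW : (W : Set Y).Nonempty) (hfW : IsIso (f ∣_ W)) :
    f (genericPoint ↥X) = genericPoint ↥Y ∧ IsIso (f.stalkMap (genericPoint ↥X)) := by
  have : Nonempty W := hW.to_subtype
  have : Nonempty (f ⁻¹ᵁ W : X.Opens) := ⟨(inv (f ∣_ W)).base (Classical.arbitrary _)⟩
  let h : (f ⁻¹ᵁ W : X.Opens).toScheme ⟶ Y := (f ⁻¹ᵁ W).ι ≫ f
  have hh : h = f ∣_ W ≫ W.ι := (morphismRestrict_ι f W).symm
  have : IsOpenImmersion h := by rw [hh]; infer_instance
  let w := genericPoint (f ⁻¹ᵁ W : X.Opens).toScheme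
  have hw : (f ⁻¹ᵁ W).ι w = genericPoint X := genericPoint_eq_of_isOpenImmersion _
  have hfη : f (genericPoint X) = genericPoint Y := by
    rw [← hw, ← Scheme.Hom.comp_apply]
    exact genericPoint_eq_of_isOpenImmersion h
  refine ⟨hfη, ?_⟩
  rw [← hw]
  have h1 : IsIso (f.stalkMap ((f ⁻¹ᵁ W).ι w) ≫ (f ⁻¹ᵁ W).ι.stalkMap w) := by
    rw [← Scheme.Hom.stalkMap_comp (f ⁻¹ᵁ W).ι f w]
    exact inferInstanceAs (IsIso (h.stalkMap w))
  exact IsIso.of_isIso_comp_right _ ((f ⁻¹ᵁ W).ι.stalkMap w)

end K415.Birat
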