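import Groth.Agent.CurvSt.K903.ConSeq

/-!
# The absolute conormal sequence

`s : X ⟶ W` a closed immersion, `w : W ⟶ Y`, `p : Y ⟶ B`.  If `C_{X/W} → s^* Ω_{W/Y}` is a monomorphism then so is
`C_{X/W} → s^* Ω_{W/B}`.
-/

set_option autoImplicit false
universe u

open CategoryTheory CategoryTheory.Limits AlgebraicGeometry Opposite TopologicalSpace
open Groth.Agent.Sga67.Sec Groth.Agent.Sga67.LocBasis

namespace K415.ConAbs

open Groth.Agent Groth.Agent.Dual Groth.Agent.Dual.H366.ConSec Groth.Agent.Dual.H366.Conormal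
open Groth.Agent.Dual.H366.ClassMain K903.ConSeq

section Can

variable {W Y B : Scheme.{u}} (w : W ⟶ Y) (p : Y ⟶ B)

theorem exists_ch' (x : W) (O : W.Opens) (hx : x ∈ O) (T₀ : Y.Opens) (hT₀ : w x ∈ T₀) :
    ∃ c : Ch w, x ∈ c.V ∧ c.V ≤ O ∧ c.T ≤ T₀ := by
  obtain ⟨_, ⟨T, hT, rfl⟩, hxT, hTT⟩ :=
    Y.isBasis_affineOpens.exists_subset_of_mem_open (a := w x) (u := (T₀ : Set Y)) hT₀ T₀.2
  obtain ⟨_, ⟨V, hV, rfl⟩, hxV, hVO⟩ :=
    W.isBasis_affineOpens.exists_subset_of_mem_open (a := x) (u := (O ⊓ w ⁻¹ᵁ T : W.Opens)) ⟨hx, hxT⟩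
      (O ⊓ w ⁻¹ᵁ T).2
  exact ⟨⟨V, hV, T, hT, fun y hy => (hVO hy).2⟩, hxV, fun y hy => (hVO hy).1, hTT⟩

variable [QuasiCompact (pullback.diagonal w)]

/-- functions from the far base have zero differential -/
theorem dS_base {T : B.Opens} {V : W.Opens} (e : V ≤ (w ≫ p) ⁻¹ᵁ T) (a : Γ(B, T)) :
    dS w V ((w ≫ p).appLE T V e a) = 0 := by
  apply eq_of_locally
  intro x hx
  obtain ⟨c, hc, hcV, hT⟩ := exists_ch' w x V hx (p ⁻¹ᵁ T) (e hx)
  refine ⟨c.V, hcV, hc, ?_⟩
  have h1 : resO W hcV ((w ≫ p).appLE T V e a) = w.appLE c.T c.V c.e (p.appLE T c.T hT a) := by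
    have h2 := Scheme.Hom.appLE_comp_appLE w p T c.T c.V hT c.e
    have h3 := Scheme.Hom.appLE_map (w ≫ p) e (homOfLE hcV).op
    have h4 : (w ≫ p).appLE T V e ≫ W.presheaf.map (homOfLE hcV).op = p.appLE T c.T hT ≫ w.appLE c.T c.V c.e := by
      rw [h2, h3]
    exact congr($h4 a)
  rw [dS_res, h1, dS_appLE, map_zero]

variable [QuasiCompact (pullback.diagonal (w ≫ p))]

/-- The canonical map `Ω_{W/B} ⟶ Ω_{W/Y}`. -/
theorem exists_can : ∃ q : Omega.sheaf (w ≫ p) ⟶ Omega.sheaf w,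
    ∀ (V : W.Opens) (a : Γ(W, V)), appS q V (dS (w ≫ p) V a) = dS w V a := by
  have h0 : ∀ c : Ch (w ≫ p), ∃ L : Sec (Omega.sheaf (w ≫ p)) c.V →ₗ[Γ(W, c.V)] Sec (Omega.sheaf w) c.V,
      ∀ a, L (dS (w ≫ p) c.V a) = dS w c.V a := fun c =>
    exists_liftS c (dS w c.V) (dS_mul w c.V) (fun a => dS_base w p c.e a)
  choose L hL using h0
  obtain ⟨q, hq⟩ := exists_hom_of_basis' (isBasis_ch (w ≫ p)) (Omega.sheaf (w ≫ p)) (Omega.sheaf w) L (by
      intro c c' h x
      have hx : x ∈ Submodule.span Γ(W, c.V) (Set.range (dS (w ≫ p) c.V)) := by rw [span_dS]; trivial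
      induction hx using Submodule.span_induction with
      | mem x hx =>
        obtain ⟨a, rfl⟩ := hx
        rw [hL, dS_res, dS_res, hL]
      | zero => simp only [map_zero]
      | add x y _ _ hx hy => simp only [map_add, hx, hy]
      | smul a x _ hx => rw [res_smul, map_smul, map_smul, res_smul, hx])
  refine ⟨q, fun V a => ?_⟩
  apply eq_of_locally
  intro x hx
  obtain ⟨c, hc, hcV⟩ := exists_ch (w ≫ p) x V hx
  refine ⟨c.V, hcV, hc, ?_⟩
  rw [← appS_res, dS_res, dS_res, hq, hL]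

end Can

section Main

variable {X W Y B : Scheme.{u}} (s : X ⟶ W)

theorem sec_map {M N : W.Modules} (φ : M ⟶ N) {U : W.Opens} {V : X.Opens}
    (e : V ≤ s ⁻¹ᵁ U) (x : Γ(M, U)) :
    ((Scheme.Modules.pullback s).map φ).app V (VarietyB.PullSec.sec s M e x) =
      VarietyB.PullSec.sec s N e (φ.app U x) := by
  rw [VarietyB.PullSec.sec_apply, VarietyB.PullSec.sec_apply]
  have h1 := congr($((((Scheme.Modules.pullback s).map φ).mapPresheaf.naturality (homOfLE e).op))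
    (((Scheme.Modules.pullbackPushforwardAdjunction s).unit.app M).app U x))
  have h2 := (Scheme.Modules.pullbackPushforwardAdjunction s).unit.naturality φ
  have h3 := congr(($h2).app U x)
  refine h1.trans ?_
  exact congrArg (((Scheme.Modules.pullback s).obj N).presheaf.map (homOfLE e).op) h3.symm

theorem secS_map {M N : W.Modules} (q : M ⟶ N) (V : W.Opens) (x : Sec M V) :
    appS ((Scheme.Modules.pullback s).map q) (s ⁻¹ᵁ V) (secS s M V x) = secS s N V (appS q V x) :=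
  sec_map s q (le_refl (s ⁻¹ᵁ V)) x

variable [IsClosedImmersion s] (w : W ⟶ Y) (p : Y ⟶ B)
  [QuasiCompact (pullback.diagonal w)] [QuasiCompact (pullback.diagonal (s ≫ w))]
  [QuasiCompact (pullback.diagonal (w ≫ p))] [QuasiCompact (pullback.diagonal (s ≫ w ≫ p))]

theorem mono_dMap_comp [Mono (dMap s w)] : Mono (dMap s (w ≫ p)) := by
  obtain ⟨q, hq⟩ := exists_can w p
  have h : dMap s (w ≫ p) ≫ (Scheme.Modules.pullback s).map q = dMap s w := by
    refine hom_ext_of_locally fun x U hx => ?_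
    obtain ⟨O', hxO', hO'⟩ := exists_preimage s x U hx
    obtain ⟨c, hc, hcO⟩ := exists_ch w (s x) O' hxO'
    refine ⟨s ⁻¹ᵁ c.V, (s.preimage_mono hcO).trans hO', hc, ?_⟩
    have key : appS (dMap s (w ≫ p) ≫ (Scheme.Modules.pullback s).map q) (s ⁻¹ᵁ c.V) =
        appS (dMap s w) (s ⁻¹ᵁ c.V) := by
      refine LinearMap.ext_on_range (v := cS s c.V) (span_cS s c.hV) fun y => ?_
      rw [appS_comp, dMap_cS, dMap_cS, secS_map, hq]
    exact fun y => LinearMap.congr_fun key y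
  have : Mono (dMap s (w ≫ p) ≫ (Scheme.Modules.pullback s).map q) := by rw [h]; infer_instance
  exact mono_of_mono _ ((Scheme.Modules.pullback s).map q)

end Main

end K415.ConAbs
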