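import Groth.Agent.Coh.K415.ExtVan
import Groth.Agent.Coh.K415.ConAbs
import Groth.Agent.Etcore.SmoothRed

/-!
# Vanishing on a smooth divisor, with absolute differentials

`van_main`: the argument of `K882.Divisor.van_main` for an arbitrary extension `0 → C → i^* E → F → 0` on the divisor.
-/

set_option autoImplicit false
universe u

open CategoryTheory CategoryTheory.Limits AlgebraicGeometry
open K882 K882.Coho K882.IsoMon K882.Divisor
open Groth.Agent.Sga67.TensorOps

namespace K415.DivAbs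

variable {X : Scheme.{u}} (D : X.IdealSheafData)

theorem c_pull_pow {Y : Scheme.{u}} (g : Y ⟶ X) {M : X.Modules} (hM : PicF.IsInvertible M) (n : ℕ) :
    c ((Scheme.Modules.pullback g).obj (CohB1.tensorPow M n)) = c ((Scheme.Modules.pullback g).obj M) ^ n := by
  induction n with
  | zero => rw [pow_zero]; exact c_pull_unit g
  | succ n ih =>
    rw [pow_succ, ← ih]
    exact c_pull_tensor g (flf_of_inv (inv_pow hM n)) M

/-- The sequences `0 → C ⊗ Λ^a F → i^* Λ^(a+1) E → Λ^(a+1) F → 0`. -/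
theorem exists_seq (hI : PicF.IsInvertible (ClSub.idealMod D)) {E : X.Modules} {F : D.subscheme.Modules}
    (hE : FlatMod.IsFinLocFree E) (hF : FlatMod.IsFinLocFree F)
    {S : ShortComplex D.subscheme.Modules} (hS : S.ShortExact)
    (e1' : c S.X₁ = c ((Scheme.Modules.pullback D.subschemeι).obj (ClSub.idealMod D)))
    (e2 : c S.X₂ = c ((Scheme.Modules.pullback D.subschemeι).obj E)) (e3 : c S.X₃ = c F)
    (AX : ℕ → X.Modules) (hAX : ∀ a, ExtPow.IsExtPow a E (AX a))
    (AY : ℕ → D.subscheme.Modules) (hAY : ∀ a, ExtPow.IsExtPow a F (AY a)) (a : ℕ) :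
    ∃ T : ShortComplex D.subscheme.Modules, T.ShortExact ∧
      c T.X₁ = c ((Scheme.Modules.pullback D.subschemeι).obj (ClSub.idealMod D)) * c (AY a) ∧
      c T.X₂ = c ((Scheme.Modules.pullback D.subschemeι).obj (AX (a + 1))) ∧ c T.X₃ = c (AY (a + 1)) := by
  have h1 : FlatMod.IsFinLocFreeOfRank 1 S.X₁ := by
    rw [Groth.Agent.Ega2.QCohLocal.isFinLocFreeOfRank_one_iff]
    exact inv_c e1'.symm (Groth.Agent.Fdesc.LocGen.isInvertible_pullback D.subschemeι hI)
  have h3 : FlatMod.IsFinLocFree S.X₃ := flf_c e3.symm hF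
  have h2 : FlatMod.IsFinLocFree S.X₂ := Groth.Agent.Sga67.LocBasis.isFinLocFree_of_shortExact hS
    (Groth.Agent.Krr.H487.KerRank.isFinLocFree_of_rank h1) h3
  obtain ⟨L, hL⟩ := exists_pows h2
  obtain ⟨M, hM⟩ := exists_pows h3
  obtain ⟨T, hT, ⟨t1⟩, ⟨t2⟩, ⟨t3⟩⟩ := ExtLine.exists_shortExact hS h3 h1 a (hL (a + 1)) (hM a) (hM (a + 1))
  have hp : ExtPow.IsExtPow (a + 1) ((Scheme.Modules.pullback D.subschemeι).obj E)
      ((Scheme.Modules.pullback D.subschemeι).obj (AX (a + 1))) := by
    refine Groth.Agent.Krr.H487.ExtPull.isExtPow_pullback _ hE (hAX (a + 1)) ?_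
    obtain ⟨L', -, hL'⟩ := Groth.Agent.Krr.H495.ExtExist.exists_isExtPow (a + 1) _
      (Groth.Agent.PerfB.FlatPull.isFinLocFree_pullback D.subschemeι hE)
    exact ⟨L', hL'⟩
  refine ⟨T, hT, ?_, ?_, ?_⟩
  · rw [c_iso t1, c_tensor, e1', c_extPow_unique e3 (hM a) (hAY a)]
  · rw [c_iso t2, c_extPow_unique e2 (hL (a + 1)) hp]
  · rw [c_iso t3, c_extPow_unique e3 (hM (a + 1)) (hAY (a + 1))]

/-- The key vanishing on the divisor. -/
theorem van_main {n : ℕ} (hI : PicF.IsInvertible (ClSub.idealMod D)) {E : X.Modules} {F : D.subscheme.Modules}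
    (hE : FlatMod.IsFinLocFree E) (hF : FlatMod.IsFinLocFree F)
    {S : ShortComplex D.subscheme.Modules} (hS : S.ShortExact)
    (e1' : c S.X₁ = c ((Scheme.Modules.pullback D.subschemeι).obj (ClSub.idealMod D)))
    (e2 : c S.X₂ = c ((Scheme.Modules.pullback D.subschemeι).obj E)) (e3 : c S.X₃ = c F)
    (AX : ℕ → X.Modules) (hAX : ∀ a, ExtPow.IsExtPow a E (AX a))
    (AY : ℕ → D.subscheme.Modules) (hAY : ∀ a, ExtPow.IsExtPow a F (AY a))
    (hvan : ∀ j : ℕ, 1 ≤ j → ∀ a q : ℕ, a + q ≤ n →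
      Van (CohB1.tensorMod (AX a) (CohB1.tensorPow (ClSub.idealMod D) j)) q) :
    ∀ a q j : ℕ, 1 ≤ j → a + q + 1 ≤ n →
      Van (CohB1.tensorMod ((Scheme.Modules.pullback D.subschemeι).obj (CohB1.tensorPow (ClSub.idealMod D) j))
        (AY a)) q := by
  have hIf := flf_of_inv hI
  have hIj : ∀ j, FlatMod.IsFinLocFree (CohB1.tensorPow (ClSub.idealMod D) j) := fun j => flf_of_inv (inv_pow hI j)
  have hAf : ∀ a, FlatMod.IsFinLocFree (AX a) := fun a =>
    Groth.Agent.Sga67.LocBasis.isFinLocFree_of_isExtPow hE (hAX a)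
  -- vanishing of the restrictions from `X`
  have hres : ∀ a q j : ℕ, 1 ≤ j → a + q + 1 ≤ n →
      Van ((Scheme.Modules.pullback D.subschemeι).obj
        (CohB1.tensorMod (AX a) (CohB1.tensorPow (ClSub.idealMod D) j))) q := by
    intro a q j hj hq
    refine van_restrict D (flf_tensor (hAf a) (hIj j)) q (hvan j hj a q (by omega)) ?_
    refine van_c ?_ (q + 1) (hvan (j + 1) (by omega) a (q + 1) (by omega))
    rw [c_tensor, c_tensor, c_tensor, c_pow, c_pow, pow_succ, mul_assoc]
  have hres' : ∀ a j : ℕ, c ((Scheme.Modules.pullback D.subschemeι).obj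
        (CohB1.tensorMod (AX a) (CohB1.tensorPow (ClSub.idealMod D) j))) =
      c ((Scheme.Modules.pullback D.subschemeι).obj (CohB1.tensorPow (ClSub.idealMod D) j)) *
        c ((Scheme.Modules.pullback D.subschemeι).obj (AX a)) := by
    intro a j
    rw [c_pull_tensor _ (hAf a), mul_comm]
  intro a
  induction a with
  | zero =>
    intro q j hj hq
    refine van_c ?_ q (hres 0 q j hj hq)
    have h0 : c (AX 0) = 1 := c_extPow_unique rfl (hAX 0) (isExtPow_zero _)
    have h0' : c (AY 0) = 1 := c_extPow_unique rfl (hAY 0) (isExtPow_zero _)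
    rw [hres', c_tensor, h0', c_pull_iso D.subschemeι (M := AX 0) (N := Coh.structureModule X) h0, c_pull_unit]
  | succ a ih =>
    intro q j hj hq
    obtain ⟨T, hT, t1, t2, t3⟩ := exists_seq D hI hE hF hS e1' e2 e3 AX hAX AY hAY a
    have hj' : FlatMod.IsFinLocFree ((Scheme.Modules.pullback D.subschemeι).obj
        (CohB1.tensorPow (ClSub.idealMod D) j)) := Groth.Agent.PerfB.FlatPull.isFinLocFree_pullback _ (hIj j)
    have hT' := tensor_shortExact hj' hT
    have c1 : c (tensorShort ((Scheme.Modules.pullback D.subschemeι).obj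
        (CohB1.tensorPow (ClSub.idealMod D) j)) T).X₁ =
        c (CohB1.tensorMod ((Scheme.Modules.pullback D.subschemeι).obj
          (CohB1.tensorPow (ClSub.idealMod D) (j + 1))) (AY a)) := by
      change c (CohB1.tensorMod _ T.X₁) = _
      rw [c_tensor, c_tensor, t1, CohB1.tensorPow, c_pull_tensor _ (hIj j), mul_assoc]
    have c2 : c (tensorShort ((Scheme.Modules.pullback D.subschemeι).obj
        (CohB1.tensorPow (ClSub.idealMod D) j)) T).X₂ =
        c ((Scheme.Modules.pullback D.subschemeι).obj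
          (CohB1.tensorMod (AX (a + 1)) (CohB1.tensorPow (ClSub.idealMod D) j))) := by
      change c (CohB1.tensorMod _ T.X₂) = _
      rw [c_tensor, t2, hres']
    have c3 : c (tensorShort ((Scheme.Modules.pullback D.subschemeι).obj
        (CohB1.tensorPow (ClSub.idealMod D) j)) T).X₃ =
        c (CohB1.tensorMod ((Scheme.Modules.pullback D.subschemeι).obj
          (CohB1.tensorPow (ClSub.idealMod D) j)) (AY (a + 1))) := by
      change c (CohB1.tensorMod _ T.X₃) = _
      rw [c_tensor, c_tensor, t3]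
    refine van_c c3 q (van₃ hT' q (van_c c2.symm q (hres (a + 1) q j hj hq)) ?_)
    exact van_c c1.symm (q + 1) (ih (q + 1) (j + 1) (by omega) (by omega))

section Abs

variable {k : Type u} [Field k] (p : ℕ) [Fact p.Prime] [CharP k p] (hF : (frobenius k p).Finite)

include hF in
/-- absolute differentials of a smooth scheme over a field with finite Frobenius are finite locally free -/
theorem isFinLocFree_abs (f : X ⟶ Spec (CommRingCat.of k)) [Smooth f] [QuasiSeparated f] :
    FlatMod.IsFinLocFree (Omega.sheaf (specULiftZIsTerminal.from X)) := by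
  have hw : f ≫ specULiftZIsTerminal.from (Spec (CommRingCat.of k)) = specULiftZIsTerminal.from X :=
    specULiftZIsTerminal.hom_ext _ _
  obtain ⟨C, hC, ⟨e1⟩, ⟨e2⟩, ⟨e3⟩⟩ := Groth.Agent.Vancyc.H878.RelOmega.exists_shortExact f
    (specULiftZIsTerminal.from (Spec (CommRingCat.of k)))
  obtain ⟨r, ⟨er⟩⟩ := K415.AbsOmega.exists_free p hF (specULiftZIsTerminal.from (Spec (CommRingCat.of k)))
  rw [hw] at e2
  refine flf_c (c_iso e2) ?_
  refine Groth.Agent.Sga67.LocBasis.isFinLocFree_of_shortExact hC ?_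
    (flf_c (c_iso e3.symm) (Groth.Agent.Vancyc.H878.OmegaRank.isFinLocFree_omega f))
  refine flf_c (c_iso e1.symm) (Groth.Agent.PerfB.FlatPull.isFinLocFree_pullback _ ?_)
  exact fun x => ⟨⊤, r, trivial, Groth.Agent.Sga67.LocBasis.nonempty_restrict_iso_iff.mpr
    (by
      obtain ⟨b, hb⟩ : ∃ b : Fin r → Groth.Agent.Sga67.Sec.Sec (Omega.sheaf (specULiftZIsTerminal.from (Spec (CommRingCat.of k)))) ⊤,
        Groth.Agent.Sga67.LocBasis.IsLocBasis b := ⟨_, (Groth.Agent.Sga67.LocBasis.free_isLocBasis _ r).of_iso er.symm⟩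
      exact ⟨b, hb⟩)⟩

end Abs

/-- The absolute conormal sequence of a smooth divisor. -/
theorem exists_abs_seq {k : Type u} [Field k] (f : X ⟶ Spec (CommRingCat.of k)) [IsSeparated f] (N : ℕ)
    [SmoothOfRelativeDimension N f] (hI : PicF.IsInvertible (ClSub.idealMod D)) [Smooth (D.subschemeι ≫ f)] :
    ∃ S : ShortComplex D.subscheme.Modules, S.ShortExact ∧
      c S.X₁ = c ((Scheme.Modules.pullback D.subschemeι).obj (ClSub.idealMod D)) ∧
      c S.X₂ = c ((Scheme.Modules.pullback D.subschemeι).obj (Omega.sheaf (specULiftZIsTerminal.from X))) ∧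
      c S.X₃ = c (Omega.sheaf (specULiftZIsTerminal.from D.subscheme)) := by
  have hS : Smooth f := SmoothOfRelativeDimension.smooth N f
  let p := specULiftZIsTerminal.{u}.from (Spec (CommRingCat.of k))
  have hw : f ≫ p = specULiftZIsTerminal.from X := specULiftZIsTerminal.hom_ext _ _
  have hw' : D.subschemeι ≫ f ≫ p = specULiftZIsTerminal.from D.subscheme := specULiftZIsTerminal.hom_ext _ _
  have hker : D.subschemeι.ker = D := D.ker_subschemeι
  have hp : IsSeparated p := inferInstance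
  have h1 : IsSeparated (f ≫ p) := inferInstance
  have h2 : IsSeparated (D.subschemeι ≫ f ≫ p) := inferInstance
  have h3 : IsSeparated (D.subschemeι ≫ f) := inferInstance
  have hred : AlgebraicGeometry.IsReduced D.subscheme :=
    Groth.Agent.Etcore.SmoothRed.isReduced_of_smooth (D.subschemeι ≫ f)
  have e1 : c (Omega.conormal D.subschemeι) = c ((Scheme.Modules.pullback D.subschemeι).obj (ClSub.idealMod D)) := by
    rw [Omega.conormal, hker]
  have hC : FlatMod.IsFinLocFreeOfRank 1 (Omega.conormal D.subschemeι) := by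
    rw [Groth.Agent.Ega2.QCohLocal.isFinLocFreeOfRank_one_iff]
    exact inv_c e1.symm (Groth.Agent.Fdesc.LocGen.isInvertible_pullback D.subschemeι hI)
  have hΩ : FlatMod.IsFinLocFreeOfRank N (Omega.sheaf f) :=
    Groth.Agent.Vancyc.H878.OmegaRank.isFinLocFreeOfRank_omega N f
  have hmono : Mono (Groth.Agent.Dual.H366.Conormal.dMap D.subschemeι f) :=
    K903.ConSeq.mono_dMap D.subschemeι f hC hΩ (fun x hx => by
      rw [Scheme.Hom.smoothLocus_eq_top] at hx
      exact absurd trivial hx)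
  have hmono' := K415.ConAbs.mono_dMap_comp D.subschemeι f p
  refine ⟨K903.ConSeq.seq D.subschemeι (f ≫ p),
    { exact := K903.ConSeq.exact_seq D.subschemeι (f ≫ p)
      mono_f := hmono'
      epi_g := K903.ConSeq.epi_pMap D.subschemeι (f ≫ p) }, e1, ?_, ?_⟩
  · change c ((Scheme.Modules.pullback D.subschemeι).obj (Omega.sheaf (f ≫ p))) = _
    rw [hw]
  · change c (Omega.sheaf (D.subschemeι ≫ f ≫ p)) = _
    rw [hw']

end K415.DivAbs
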