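import Groth.Agent.SDiv.K476.HomSh4
import Groth.Agent.Flat2E.FormalLift418
import Groth.Agent.Divis.StalkMod
import Groth.Agent.Dcoh.TensRestr

/-!
# Embeddings of coherent modules with torsionless stalks into sums of powers of an ample module

-/

set_option autoImplicit false
universe u
open CategoryTheory CategoryTheory.Limits AlgebraicGeometry TopologicalSpace Opposite

namespace K415.DualEmb

open RefHull K476.HomSh1 K476.HomSh2 K476.HomSh3 K476.HomSh4
open Groth.Agent.Ega2.Tens Groth.Agent.Ega1.QCohLoc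
open Groth.Agent.Fdesc.LocGen (IsGen isGen_one one homOf)

variable {X : Scheme.{u}}

/-- Evaluation `G^∨ ⊗ G ⟶ O`. -/
noncomputable def ev (G : X.Modules) : CohB1.tensorMod (dual G) G ⟶ Coh.structureModule X :=
  lift (fun U => LinearMap.mk₂ Γ(X, U) (fun d g => secMap d le_rfl g)
    (fun d d' g => by rw [secMap_add]; rfl)
    (fun r d g => secMap_smul r d g)
    (fun d g g' => map_add _ _ _)
    (fun r d g => map_smul _ _ _))
    (fun U V i d g => by
      have h1 := secMap_res d le_rfl i.le g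
      have h2 := secMap_res_left d i.le (V := V) le_rfl (res G i.le g)
      exact h1.symm.trans h2.symm)

theorem ev_tmul (G : X.Modules) {U : X.Opens} (d : Γ(dual G, U)) (g : Γ(G, U)) :
    (ev G).app U (tmul d g) = secMap d le_rfl g := lift_tmul _ _ _ _ _

/-- The pairing `(G^∨ ⊗ P) ⊗ G ⟶ P`. -/
noncomputable def pairing (G P : X.Modules) :
    CohB1.tensorMod (CohB1.tensorMod (dual G) P) G ⟶ P :=
  (assoc (dual G) P G).hom ≫ mapT (𝟙 (dual G)) (swap P G).hom ≫ (assoc (dual G) G P).inv ≫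
    mapT (ev G) (𝟙 P) ≫ (lunit P).hom

theorem pairing_tmul (G P : X.Modules) {U : X.Opens} (d : Γ(dual G, U)) (p : Γ(P, U))
    (g : Γ(G, U)) : (pairing G P).app U (tmul (tmul d p) g) =
      (show Γ(X, U) from secMap d le_rfl g) • p := by
  have h1 : (pairing G P).app U (tmul (tmul d p) g) =
      (lunit P).hom.app U ((mapT (ev G) (𝟙 P)).app U ((assoc (dual G) G P).inv.app U
        ((mapT (𝟙 (dual G)) (swap P G).hom).app U ((assoc (dual G) P G).hom.app U
          (tmul (tmul d p) g))))) := rfl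
  rw [h1]
  have h2 : (assoc (dual G) P G).hom.app U (tmul (tmul d p) g) = tmul d (tmul p g) :=
    assocHom_tmul _ _ _
  have h3 : (mapT (𝟙 (dual G)) (swap P G).hom).app U (tmul d (tmul p g)) = tmul d (tmul g p) := by
    rw [mapT_tmul]
    have := swapHom_tmul (U := U) p g
    exact congrArg (tmul d) this
  have h4 : (assoc (dual G) G P).inv.app U (tmul d (tmul g p)) = tmul (tmul d g) p :=
    assocInv_tmul _ _ _
  rw [h2, h3, h4, mapT_tmul, ev_tmul]
  exact lunit_hom_tmul (show Γ(X, U) from secMap d le_rfl g) p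

/-- The morphism `G ⟶ P` defined by a global section of `G^∨ ⊗ P`. -/
noncomputable def phi (G P : X.Modules) (s : Γ(CohB1.tensorMod (dual G) P, ⊤)) : G ⟶ P :=
  (lunit G).inv ≫ mapT (homOf s) (𝟙 G) ≫ pairing G P

theorem phi_app (G P : X.Modules) (s : Γ(CohB1.tensorMod (dual G) P, ⊤)) (U : X.Opens)
    (g : Γ(G, U)) : (phi G P s).app U g = (pairing G P).app U (tmul (res _ le_top s) g) := by
  have h1 : (phi G P s).app U g = (pairing G P).app U
      ((mapT (homOf s) (𝟙 G)).app U ((lunit G).inv.app U g)) := rfl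
  rw [h1]
  have h2 : (lunit G).inv.app U g = tmul (one U) g := lunit_inv_app g
  rw [h2, mapT_tmul]
  have h3 : (homOf s).app U (one U) = res _ le_top s := Groth.Agent.Fdesc.LocGen.sec_homOf s U
  rw [h3]
  rfl

/-- Sections of a quasi-coherent module near a point, in terms of generators over an affine
open. -/
theorem local_combo {M : X.Modules} (hM : Coh.IsQCoh M) {κ : Type*} [Fintype κ]
    (s : κ → Γ(M, ⊤)) {U : X.Opens} (hU : IsAffineOpen U)
    (hs : Submodule.span Γ(X, U) (res M (le_top : U ≤ ⊤) '' Set.range s) = ⊤)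
    {W : X.Opens} (y : Γ(M, W)) {x : X} (hxU : x ∈ U) (hxW : x ∈ W) :
    ∃ (W' : X.Opens) (h : W' ≤ W) (_ : x ∈ W') (a : κ → Γ(X, W')),
      res M h y = ∑ j, a j • res M (le_top : W' ≤ ⊤) (s j) := by
  obtain ⟨f, hf, hxf⟩ := hU.exists_basicOpen_le ⟨x, hxW⟩ hxU
  have : M.IsQuasicoherent := hM
  have hl := Groth.Agent.Ega1.LocMod.loc_of_isQuasicoherent M hU
  obtain ⟨n, t, ht⟩ := hl.surj f (res M hf y)
  have ht2 : t ∈ Submodule.span Γ(X, U) (Set.range fun j => res M (le_top : U ≤ ⊤) (s j)) := by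
    rw [Set.range_comp' (f := s)] 
    rw [hs]; trivial
  rw [Submodule.mem_span_range_iff_exists_fun] at ht2
  obtain ⟨c, hc⟩ := ht2
  have hu : IsUnit (Groth.Agent.Ega1.LocMod.resR (X.basicOpen_le f) f) :=
    RingedSpace.isUnit_res_basicOpen _ f
  obtain ⟨u, hu⟩ := hu
  refine ⟨X.basicOpen f, hf, hxf, fun j => (↑(u⁻¹ ^ n) : Γ(X, X.basicOpen f)) *
    Groth.Agent.Ega1.LocMod.resR (X.basicOpen_le f) (c j), ?_⟩
  have ht' : res M (X.basicOpen_le f) t = Groth.Agent.Ega1.LocMod.resR (X.basicOpen_le f) f ^ n •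
    res M hf y := ht
  have h1 : res M hf y = (↑(u⁻¹ ^ n) : Γ(X, X.basicOpen f)) • res M (X.basicOpen_le f) t := by
    rw [ht', ← hu, smul_smul, ← Units.val_pow_eq_pow_val, ← Units.val_mul, ← mul_pow,
      inv_mul_cancel, one_pow, Units.val_one, one_smul]
  rw [h1, ← hc, map_sum, Finset.smul_sum]
  refine Finset.sum_congr rfl fun j _ => ?_
  rw [← smul_smul]
  congr 1
  have h2 := Groth.Agent.Ega1.SubSheaf.res_smul M (X.basicOpen_le f) (c j)
    (res M (le_top : U ≤ ⊤) (s j))
  refine Eq.trans h2 ?_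
  congr 1
  exact Groth.Agent.Ega1.SubSheaf.res_res M _ _ _

/-- Common open neighbourhoods for germs. -/
theorem exists_germ_le {M : X.Modules} {x : X} (m : M.presheaf.stalk x) {W : X.Opens}
    (hW : x ∈ W) : ∃ (V : X.Opens) (_ : V ≤ W) (hx : x ∈ V) (m' : Γ(M, V)),
      M.presheaf.germ V x hx m' = m := by
  obtain ⟨U, hU, m', rfl⟩ := M.presheaf.exists_germ_eq m
  exact ⟨U ⊓ W, inf_le_right, ⟨hU, hW⟩, res M inf_le_left m', germ_res M inf_le_left x ⟨hU, hW⟩ m'⟩

/-- The germ of a generator generates the stalk freely. -/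
theorem bijective_smul_germ {M : X.Modules} {V : X.Opens} {e : Γ(M, V)} (he : IsGen e) {x : X}
    (hx : x ∈ V) : Function.Bijective (fun a : X.presheaf.stalk x => a • M.presheaf.germ V x hx e) := by
  constructor
  · suffices h : ∀ a : X.presheaf.stalk x, a • M.presheaf.germ V x hx e = 0 → a = 0 by
      intro a b hab
      have h1 : (a - b) • M.presheaf.germ V x hx e = 0 := by
        rw [sub_smul, sub_eq_zero]
        exact hab
      exact sub_eq_zero.mp (h _ h1)
    intro a ha
    obtain ⟨U, hU, a', rfl⟩ := X.presheaf.exists_germ_eq a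
    have hxW : x ∈ U ⊓ V := ⟨hU, hx⟩
    have h1 : M.presheaf.germ (U ⊓ V) x hxW
        ((Groth.Agent.Ega1.LocMod.resR (inf_le_left : U ⊓ V ≤ U) a') • res M inf_le_right e) =
        M.presheaf.germ (U ⊓ V) x hxW 0 := by
      rw [Mero.germ_smul, germ_res, map_zero]
      refine Eq.trans ?_ ha
      congr 1
      exact germ_resO inf_le_left x hxW a'
    obtain ⟨W, hxW', i1, i2, h2⟩ := M.presheaf.germ_eq x hxW hxW _ _ h1
    have h3 : res M i1.le ((Groth.Agent.Ega1.LocMod.resR (inf_le_left : U ⊓ V ≤ U) a') •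
        res M inf_le_right e) = 0 := h2.trans (map_zero _)
    have h4 : (Groth.Agent.Ega1.LocMod.resR (i1.le.trans inf_le_left) a') •
        res M (i1.le.trans inf_le_right) e = 0 := by
      refine Eq.trans ?_ h3
      refine Eq.trans ?_ (Groth.Agent.Ega1.SubSheaf.res_smul M i1.le _ _).symm
      exact congrArg₂ (· • ·) (Groth.Agent.Ega1.LocMod.resR_resR _ _ _).symm
        (Groth.Agent.Ega1.SubSheaf.res_res M _ _ _).symm
    have h5 := (he W (i1.le.trans inf_le_right)).1 (h4.trans (zero_smul _ _).symm)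
    have h6 := congrArg (X.presheaf.germ W x hxW') h5
    rw [map_zero] at h6
    rw [← h6]
    exact (germ_resO (i1.le.trans inf_le_left) x hxW' a').symm
  · intro m
    obtain ⟨W, hW, hxW, m', rfl⟩ := exists_germ_le m hx
    obtain ⟨b, hb⟩ := (he W hW).2 m'
    refine ⟨X.presheaf.germ W x hxW b, ?_⟩
    have h1 : m' = b • res M hW e := hb.symm
    rw [h1, Mero.germ_smul, germ_res]

/-- The basic family of maps `G ⟶ L^q`. -/
theorem exists_family [IsLocallyNoetherian X] {L G : X.Modules} (hL : CohB1.IsAmple L)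
    (hG : Coh.IsCoh G) : ∃ (q r : ℕ) (φ : Fin r → (G ⟶ CohB1.tensorPow L q)), 1 ≤ r ∧
      ∀ x : X, ∃ e : (CohB1.tensorPow L q).presheaf.stalk x,
        Function.Bijective (fun a : X.presheaf.stalk x => a • e) ∧
        ∀ δ : Module.Dual (X.presheaf.stalk x) (G.presheaf.stalk x),
          ∃ a : Fin r → X.presheaf.stalk x, ∀ g, δ g • e = ∑ i, a i • stalkMapₗ (φ i) x g := by
  have hcomp : CompactSpace X := hL.2.1
  obtain ⟨q, hq⟩ := Groth.Agent.Ega2.AmpleGlobGen.exists_globGen hL (isCoh_dual hG)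
  have hgg := hq q le_rfl
  let P := CohB1.tensorPow L q
  have hP : PicF.IsInvertible P := Groth.Agent.Fdesc.LocGen.isInvertible_tensorPow hL.1 q
  have hM : Coh.IsCoh (CohB1.tensorMod (dual G) P) :=
    Groth.Agent.Ega2.GlobGenCrit.isCoh_tensor (isCoh_dual hG) hP
  obtain ⟨ι, κ, hκ, U, s₀, hU, hUc, hs₀⟩ :=
    Groth.Agent.Flat2E.FormalLift418.exists_finite_span hM hgg
  -- index the family by `Fin (n + 1)`, adding the zero section
  obtain ⟨n, ⟨eκ⟩⟩ := Finite.exists_equiv_fin κ
  let s : Fin (n + 1) → Γ(CohB1.tensorMod (dual G) P, ⊤) := Fin.cons 0 (fun i => s₀ (eκ.symm i))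
  have hs : ∀ i, Submodule.span Γ(X, U i) (res (CohB1.tensorMod (dual G) P) (le_top : U i ≤ ⊤) ''
      Set.range s) = ⊤ := by
    intro i
    rw [eq_top_iff]
    have h1 : (⊤ : Submodule Γ(X, U i) _) = _ := (hs₀ i).symm
    rw [h1]
    refine Submodule.span_mono (Set.image_mono ?_)
    rintro _ ⟨k, rfl⟩
    refine ⟨(eκ k).succ, ?_⟩
    simp only [s, Fin.cons_succ, Equiv.symm_apply_apply]
  refine ⟨q, n + 1, fun i => phi G P (s i), by omega, fun x => ?_⟩
  obtain ⟨i, hi⟩ := Opens.mem_iSup.mp (show x ∈ ⨆ i, U i by rw [hUc]; trivial)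
  obtain ⟨V, e, hxV, he⟩ := (Groth.Agent.Fdesc.LocGen.isInvertible_iff P).mp hP x
  refine ⟨P.presheaf.germ V x hxV e, bijective_smul_germ he hxV, fun δ => ?_⟩
  obtain ⟨θ, hθ⟩ := evalStalk_surjective G (Coh.structureModule X) (isFP_of_isCoh hG) x
    ((homStructEquiv G x).symm δ)
  obtain ⟨W, hWV, hxW, d, rfl⟩ := exists_germ_le θ hxV
  obtain ⟨W', hW', hxW', a, ha⟩ := local_combo hM.1 s (hU i) (hs i) (tmul d (res P hWV e)) hi hxW
  refine ⟨fun j => X.presheaf.germ W' x hxW' (a j), fun g => ?_⟩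
  obtain ⟨Y, hY, hxY, g', rfl⟩ := exists_germ_le g hxW'
  have hYW : Y ≤ W := hY.trans hW'
  -- left-hand side
  have h1 : δ (G.presheaf.germ Y x hxY g') =
      X.presheaf.germ Y x hxY (show Γ(X, Y) from secMap d hYW g') := by
    have h2 : δ = homStructEquiv G x (evalStalk G (Coh.structureModule X) x
        ((dual G).presheaf.germ W x hxW d)) := by
      rw [hθ, LinearEquiv.apply_symm_apply]
    rw [h2, homStructEquiv_apply, LinearEquiv.symm_apply_eq, evalStalk_germ]
    rw [Groth.Agent.Fdesc.StructMod.stalkEquiv_germ]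
    exact (germ_secMap d hYW g' x hxY).symm
  have h2 : P.presheaf.germ V x hxV e = P.presheaf.germ Y x hxY (res P (hYW.trans hWV) e) :=
    (germ_res P (hYW.trans hWV) x hxY e).symm
  have h3 : δ (G.presheaf.germ Y x hxY g') • P.presheaf.germ V x hxV e =
      P.presheaf.germ Y x hxY ((show Γ(X, Y) from secMap d hYW g') • res P (hYW.trans hWV) e) := by
    rw [h1, h2, Mero.germ_smul]
  have h4 : (show Γ(X, Y) from secMap d hYW g') • res P (hYW.trans hWV) e =
      (pairing G P).app Y (tmul (tmul (res (dual G) hYW d) (res P (hYW.trans hWV) e)) g') := by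
    rw [pairing_tmul]
    exact congrArg₂ (· • ·) (secMap_res_left d hYW le_rfl g').symm rfl
  have h5 : (tmul (res (dual G) hYW d) (res P (hYW.trans hWV) e) :
      Γ(CohB1.tensorMod (dual G) P, Y)) =
      ∑ j, Groth.Agent.Ega1.LocMod.resR hY (a j) • res _ (le_top : Y ≤ ⊤) (s j) := by
    have h6 := congrArg (res (CohB1.tensorMod (dual G) P) hY) ha
    rw [map_sum] at h6
    have h7 : res (CohB1.tensorMod (dual G) P) hY (res _ hW' (tmul d (res P hWV e))) =
        tmul (res (dual G) hYW d) (res P (hYW.trans hWV) e) := by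
      refine Eq.trans (Groth.Agent.Ega1.SubSheaf.res_res _ _ _ _) ?_
      refine Eq.trans (tmul_res (homOfLE hYW) d (res P hWV e)) ?_
      exact congrArg (tmul (res (dual G) hYW d)) (Groth.Agent.Ega1.SubSheaf.res_res P hWV hYW e)
    rw [← h7, h6]
    refine Finset.sum_congr rfl fun j _ => ?_
    refine Eq.trans (Groth.Agent.Ega1.SubSheaf.res_smul _ hY _ _) ?_
    exact congrArg₂ (· • ·) rfl (Groth.Agent.Ega1.SubSheaf.res_res _ _ _ _)
  rw [h3, h4, h5, sum_tmul, map_sum, map_sum]
  refine Finset.sum_congr rfl fun j _ => ?_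
  rw [smul_tmul, Scheme.Modules.Hom.app_smul, Mero.germ_smul, stalkMapₗ_germ, phi_app]
  exact congrArg₂ (· • ·) (germ_resO hY x hxY (a j)) rfl

end K415.DualEmb
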