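import Groth.Agent.Coh.K415.DualEmb
import Groth.Agent.Sga2.PnCoprod
import Groth.Agent.CycB.CohProp
import Groth.Agent.PerfA.CohSerre
import Groth.Agent.PerfC.FlatExact
import Mathlib.RingTheory.LocalRing.Module

/-!
# Embeddings of coherent modules with torsionless stalks into sums of powers of an ample module
-/

set_option autoImplicit false
universe u
open CategoryTheory CategoryTheory.Limits AlgebraicGeometry TopologicalSpace Opposite

namespace K415.DualEmb

section Alg

variable {R E F Q P : Type*} [CommRing R] [AddCommGroup E] [Module R E] [AddCommGroup F] [Module R F]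
  [AddCommGroup Q] [Module R Q] [AddCommGroup P] [Module R P]

/-- The condition satisfied by the family. -/
def Gen {r : ℕ} (e : P) (φ : Fin r → (E →ₗ[R] P)) : Prop :=
  ∀ δ : Module.Dual R E, ∃ a : Fin r → R, ∀ g, δ g • e = ∑ i, a i • φ i g

theorem injective_of_gen {r : ℕ} {e : P} (he : Function.Bijective (fun a : R => a • e))
    {φ : Fin r → (E →ₗ[R] P)} (h : Gen e φ)
    (hE : ∀ g : E, (∀ δ : Module.Dual R E, δ g = 0) → g = 0) (g : E) (hg : ∀ i, φ i g = 0) :
    g = 0 := by
  apply hE
  intro δ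
  obtain ⟨a, ha⟩ := h δ
  apply he.1
  change δ g • e = (0 : R) • e
  rw [ha, zero_smul]
  exact Finset.sum_eq_zero fun i _ => by rw [hg, smul_zero]

variable {r : ℕ} {e : P} {φ : Fin r → (E →ₗ[R] P)} (ι : E →ₗ[R] F) (p : Fin r → (F →ₗ[R] P))

/-- Linear forms extend along `ι`. -/
theorem exists_ext (he : Function.Bijective (fun a : R => a • e)) (h : Gen e φ)
    (hp : ∀ i g, p i (ι g) = φ i g) (δ : Module.Dual R E) :
    ∃ δ' : Module.Dual R F, ∀ g, δ' (ι g) = δ g := by
  obtain ⟨a, ha⟩ := h δ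
  let c : R ≃ₗ[R] P := LinearEquiv.ofBijective (LinearMap.toSpanSingleton R P e) he
  refine ⟨c.symm.toLinearMap.comp (∑ i, a i • p i), fun g => ?_⟩
  rw [LinearMap.comp_apply, LinearMap.sum_apply]
  change c.symm _ = _
  rw [LinearEquiv.symm_apply_eq]
  change _ = δ g • e
  rw [ha]
  exact Finset.sum_congr rfl fun i _ => by rw [LinearMap.smul_apply, hp]

/-- Double duality: elements killed by the annihilator of the image of `ι` are in the image. -/
theorem mem_range_of_dual (hF : ∀ f : F, (∀ δ : Module.Dual R F, δ f = 0) → f = 0)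
    (hext : ∀ δ : Module.Dual R E, ∃ δ' : Module.Dual R F, ∀ g, δ' (ι g) = δ g)
    (hE : Function.Surjective (Module.Dual.eval R E)) (f : F)
    (hf : ∀ δ : Module.Dual R F, (∀ g, δ (ι g) = 0) → δ f = 0) : ∃ g, ι g = f := by
  choose L hL using hext
  have huniq : ∀ δ δ' : Module.Dual R F, (∀ g, δ (ι g) = δ' (ι g)) → δ f = δ' f := by
    intro δ δ' h
    have := hf (δ - δ') (fun g => by rw [LinearMap.sub_apply, h, sub_self])
    rwa [LinearMap.sub_apply, sub_eq_zero] at this
  let θ : Module.Dual R (Module.Dual R E) :=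
    { toFun := fun δ => L δ f
      map_add' := fun δ δ' => by
        rw [← LinearMap.add_apply]
        exact huniq _ _ fun g => by rw [LinearMap.add_apply, hL, hL, hL, LinearMap.add_apply]
      map_smul' := fun a δ => by
        rw [RingHom.id_apply, ← LinearMap.smul_apply]
        exact huniq _ _ fun g => by rw [LinearMap.smul_apply, hL, hL, LinearMap.smul_apply] }
  obtain ⟨g, hg⟩ := hE θ
  refine ⟨g, ?_⟩
  have h : ι g - f = 0 := by
    apply hF
    intro δ
    have h1 : L (δ.comp ι) f = (δ.comp ι) g := by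
      have := congrArg (fun t => t (δ.comp ι)) hg
      exact this.symm
    have h2 : L (δ.comp ι) f = δ f := huniq _ _ fun g => by rw [hL]; rfl
    rw [map_sub, sub_eq_zero, ← h2, h1]
    rfl
  exact sub_eq_zero.mp h

/-- The quotient has enough linear forms. -/
theorem quot_torsionless (π : F →ₗ[R] Q) (hπ : Function.Surjective π)
    (hex : ∀ f, π f = 0 ↔ ∃ g, ι g = f)
    (hmem : ∀ f : F, (∀ δ : Module.Dual R F, (∀ g, δ (ι g) = 0) → δ f = 0) → ∃ g, ι g = f)
    (y : Q) (hy : ∀ δ : Module.Dual R Q, δ y = 0) : y = 0 := by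
  obtain ⟨f, rfl⟩ := hπ y
  rw [hex]
  apply hmem
  intro δ hδ
  have hker : LinearMap.ker π ≤ LinearMap.ker δ := by
    intro z hz
    obtain ⟨g, rfl⟩ := (hex z).mp hz
    exact hδ g
  let q := π.quotKerEquivOfSurjective hπ
  let δ' : Module.Dual R Q := ((LinearMap.ker π).liftQ δ hker).comp q.symm.toLinearMap
  have h1 : δ' (π f) = δ f := by
    have h2 : q.symm (π f) = Submodule.Quotient.mk f := by
      rw [LinearEquiv.symm_apply_eq]
      rfl
    change (LinearMap.ker π).liftQ δ hker (q.symm (π f)) = _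
    rw [h2]
    rfl
  rw [← h1]
  exact hy δ'

/-- If `E` is finite free then the quotient is projective. -/
theorem quot_projective [Module.Finite R E] [Module.Free R E] [Module.Projective R F]
    (hext : ∀ δ : Module.Dual R E, ∃ δ' : Module.Dual R F, ∀ g, δ' (ι g) = δ g)
    (π : F →ₗ[R] Q) (hπ : Function.Surjective π) (hex : Function.Exact ι π) :
    Module.Projective R Q := by
  let b := Module.Free.chooseBasis R E
  choose L hL using hext
  let ρ : F →ₗ[R] E := ∑ i, (L (b.coord i)).smulRight (b i)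
  have hρ : ρ.comp ι = LinearMap.id := by
    ext g
    rw [LinearMap.comp_apply, LinearMap.sum_apply]
    refine Eq.trans (Finset.sum_congr rfl fun i _ => ?_) (b.sum_repr g)
    rw [LinearMap.smulRight_apply, hL]
    rfl
  obtain ⟨-, l, hl⟩ := (hex.split_tfae'.out 1 0 rfl rfl).mp ⟨hπ, ρ, hρ⟩
  exact Module.Projective.of_split l π hl

end Alg

open RefHull K476.HomSh1 Groth.Agent.CycB.StalkExact

variable {X : Scheme.{u}}

theorem isFinLocFree_of_isInvertible {L : X.Modules} (hL : PicF.IsInvertible L) :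
    FlatMod.IsFinLocFree L := by
  intro x
  obtain ⟨U, hU, ⟨e⟩⟩ := hL x
  refine ⟨U, 1, hU, ⟨e ≪≫ ?_⟩⟩
  exact (Limits.coproductUniqueIso (fun _ : Fin 1 => Coh.structureModule (↑U : Scheme.{u}))).symm

/-- The map into the sum of copies of `P` given by a family. -/
noncomputable def iota {E P : X.Modules} {r : ℕ} (φ : Fin r → (E ⟶ P)) :
    E ⟶ ∐ fun _ : Fin r => P :=
  ∑ i, φ i ≫ Sigma.ι (fun _ : Fin r => P) i

theorem iota_π {E P : X.Modules} {r : ℕ} (φ : Fin r → (E ⟶ P)) (j : Fin r) :
    iota φ ≫ Sigma.π (fun _ : Fin r => P) j = φ j := by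
  rw [iota, Preadditive.sum_comp, Finset.sum_eq_single j]
  · rw [Category.assoc, Sigma.ι_π_eq_id, Category.comp_id]
  · intro i _ hi
    rw [Category.assoc, Sigma.ι_π_of_ne _ hi, comp_zero]
  · intro h
    exact (h (Finset.mem_univ _)).elim

theorem stalkLin_iota {E P : X.Modules} {r : ℕ} (φ : Fin r → (E ⟶ P)) (j : Fin r) (x : X)
    (g : E.presheaf.stalk x) :
    stalkLin (Sigma.π (fun _ : Fin r => P) j) x (stalkLin (iota φ) x g) = stalkLin (φ j) x g := by
  rw [← LinearMap.comp_apply, ← stalkLin_comp, iota_π]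

/-- A family as in `exists_family` embeds a module with torsionless stalks. -/
theorem mono_iota {E P : X.Modules} {r : ℕ} (φ : Fin r → (E ⟶ P))
    (h : ∀ x : X, ∃ e : P.presheaf.stalk x,
        Function.Bijective (fun a : X.presheaf.stalk x => a • e) ∧
        Gen e (fun i => stalkLin (φ i) x))
    (hE : ∀ (x : X) (g : E.presheaf.stalk x),
      (∀ δ : Module.Dual (X.presheaf.stalk x) (E.presheaf.stalk x), δ g = 0) → g = 0) :
    Mono (iota φ) := by
  rw [Groth.Agent.PerfC.FlatExact.mono_iff_stalkLin]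
  intro x
  rw [injective_iff_map_eq_zero]
  intro g hg
  obtain ⟨e, he, hgen⟩ := h x
  refine injective_of_gen he hgen (hE x) g fun i => ?_
  rw [← stalkLin_iota φ i x g, hg, map_zero]

/-- Main result. -/
theorem main [IsLocallyNoetherian X] {L E : X.Modules} (hL : CohB1.IsAmple L) (hE : Coh.IsCoh E)
    (hEr : ∀ x : X, Module.IsReflexive (X.presheaf.stalk x) (E.presheaf.stalk x)) :
    ∃ (q r q' r' : ℕ) (E' : X.Modules) (ι : E ⟶ ∐ fun _ : Fin r => CohB1.tensorPow L q)
      (π : (∐ fun _ : Fin r => CohB1.tensorPow L q) ⟶ E') (w : ι ≫ π = 0)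
      (ι' : E' ⟶ ∐ fun _ : Fin r' => CohB1.tensorPow L q'),
      1 ≤ r ∧ 1 ≤ r' ∧ (ShortComplex.mk ι π w).ShortExact ∧ Mono ι' ∧ Coh.IsCoh E' ∧
        (FlatMod.IsFinLocFree E → FlatMod.IsFinLocFree E') := by
  obtain ⟨q, r, φ, hr, hφ⟩ := exists_family hL hE
  let P := CohB1.tensorPow L q
  let F : X.Modules := ∐ fun _ : Fin r => P
  have hP : PicF.IsInvertible P := Groth.Agent.Fdesc.LocGen.isInvertible_tensorPow hL.1 q
  have hφ' : ∀ x : X, ∃ e : P.presheaf.stalk x,
        Function.Bijective (fun a : X.presheaf.stalk x => a • e) ∧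
        Gen e (fun i => stalkLin (φ i) x) := by
    intro x
    obtain ⟨e, he, h⟩ := hφ x
    refine ⟨e, he, fun δ => ?_⟩
    obtain ⟨a, ha⟩ := h δ
    refine ⟨a, fun g => ?_⟩
    rw [ha]
    exact Finset.sum_congr rfl fun i _ => by rw [stalkMapₗ_eq]
  have hFlf : FlatMod.IsFinLocFree F := Groth.Agent.Sga2.PnCoprod.isFinLocFree_coproduct _
    fun _ => isFinLocFree_of_isInvertible hP
  have hFc : Coh.IsCoh F := Groth.Agent.CycB.CohProp.isCoh_finite_coproduct _
    fun _ => Groth.Agent.PerfA.CohSerre.isCoh_of_isFinLocFree (isFinLocFree_of_isInvertible hP)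
  have hmono : Mono (iota φ) := mono_iota φ hφ' fun x g hg => by
    have := hEr x
    have h1 : Module.Dual.eval (X.presheaf.stalk x) (E.presheaf.stalk x) g = 0 :=
      LinearMap.ext fun δ => hg δ
    exact (map_eq_zero_iff _ this.1.1).mp h1
  let E' := cokernel (iota φ)
  let π : F ⟶ E' := cokernel.π (iota φ)
  have hS : (ShortComplex.mk (iota φ) π (cokernel.condition _)).ShortExact :=
    { exact := ShortComplex.exact_cokernel _ }
  have hE'c : Coh.IsCoh E' := Groth.Agent.CycB.CohProp.isCoh_cokernel _ hE hFc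
  have hfree : ∀ x : X, Module.Finite (X.presheaf.stalk x) (F.presheaf.stalk x) ∧
      Module.Free (X.presheaf.stalk x) (F.presheaf.stalk x) := fun x =>
    Groth.Agent.Divis.StalkMod.finite_free_stalk hFc.1 hFlf x
  have hext : ∀ (x : X) (δ : Module.Dual (X.presheaf.stalk x) (E.presheaf.stalk x)),
      ∃ δ' : Module.Dual (X.presheaf.stalk x) (F.presheaf.stalk x),
        ∀ g, δ' (stalkLin (iota φ) x g) = δ g := by
    intro x δ
    obtain ⟨e, he, h⟩ := hφ' x
    exact exists_ext (stalkLin (iota φ) x) (fun i => stalkLin (Sigma.π (fun _ : Fin r => P) i) x)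
      he h (fun i g => stalkLin_iota φ i x g) δ
  have hex : ∀ x : X, Function.Exact (stalkLin (iota φ) x) (stalkLin π x) := fun x =>
    stalkLin_exact _ hS.exact x
  have hsurj : ∀ x : X, Function.Surjective (stalkLin π x) := fun x => stalkLin_surjective π x
  have htl : ∀ (x : X) (y : E'.presheaf.stalk x),
      (∀ δ : Module.Dual (X.presheaf.stalk x) (E'.presheaf.stalk x), δ y = 0) → y = 0 := by
    intro x y hy
    have := (hfree x).2
    refine quot_torsionless (stalkLin (iota φ) x) (stalkLin π x) (hsurj x)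
      (fun f => (hex x f)) ?_ y hy
    intro f hf
    exact mem_range_of_dual (stalkLin (iota φ) x)
      (fun f hf => (Module.forall_dual_apply_eq_zero_iff (X.presheaf.stalk x) f).mp hf)
      (hext x) (hEr x).1.2 f hf
  obtain ⟨q', r', φ', hr', hφ''⟩ := exists_family hL hE'c
  have hφ3 : ∀ x : X, ∃ e : (CohB1.tensorPow L q').presheaf.stalk x,
        Function.Bijective (fun a : X.presheaf.stalk x => a • e) ∧
        Gen e (fun i => stalkLin (φ' i) x) := by
    intro x
    obtain ⟨e, he, h⟩ := hφ'' x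
    refine ⟨e, he, fun δ => ?_⟩
    obtain ⟨a, ha⟩ := h δ
    refine ⟨a, fun g => ?_⟩
    rw [ha]
    exact Finset.sum_congr rfl fun i _ => by rw [stalkMapₗ_eq]
  refine ⟨q, r, q', r', E', iota φ, π, cokernel.condition _, iota φ', hr, hr', hS,
    mono_iota φ' hφ3 htl, hE'c, fun hElf => ?_⟩
  refine Groth.Agent.Divis.StalkMod.isFinLocFree_of_free_stalk hE'c fun x => ?_
  obtain ⟨h1, h2⟩ := Groth.Agent.Divis.StalkMod.finite_free_stalk hE.1 hElf x
  obtain ⟨h3, h4⟩ := hfree x
  have h5 := quot_projective (stalkLin (iota φ) x) (hext x) (stalkLin π x) (hsurj x) (hex x)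
  have h6 : Module.Finite (X.presheaf.stalk x) (E'.presheaf.stalk x) :=
    Module.Finite.of_surjective (stalkLin π x) (hsurj x)
  exact Module.free_of_flat_of_isLocalRing

end K415.DualEmb
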