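import Groth.Agent.HodgeNum.K882.Divisor
import Groth.Agent.Coh.K415.AbsOmega
import Groth.Prelude.Def_FrameBundle
import Mathlib.CategoryTheory.Abelian.DiagramLemmas.KernelCokernelComp

/-!
# Kodaira vanishing for extensions by trivial modules

`PV M N E`: for every `q`, every `q`-th exterior power `Ω` of `E`, `H^i(X, Ω ⊗ M^n) = 0` for `n ≥ 1`, `i + q < N`.
`main`: `PV` passes from `F` to `E` along `0 → A → E → F → 0` with `A` free of finite rank.
-/

set_option autoImplicit false
universe u

open CategoryTheory CategoryTheory.Limits AlgebraicGeometry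
open K882.Coho K882.IsoMon K882.Divisor
open Groth.Agent.Sga67.TensorOps

namespace K415.ExtVan

theorem third_iso {C : Type*} [Category C] [Abelian C] {A B D : C} (f : A ⟶ B) (g : B ⟶ D) [Mono g] :
    (ShortComplex.mk (cokernel.map f (f ≫ g) (𝟙 _) g (by simp)) (cokernel.map (f ≫ g) g f (𝟙 _) (by simp))
      (by ext; simp)).ShortExact := by
  have h3 := (kernelCokernelCompSequence.snakeInput f g).L₃_exact
  have h2 := (kernelCokernelCompSequence.snakeInput f g).L₂'_exact
  have h0 : IsZero (kernel g) := isZero_kernel_of_mono g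
  exact
  { exact := h3
    mono_f := h2.mono_g (h0.eq_of_src _ _)
    epi_g := by
      refine epi_of_epi_fac (f := cokernel.π (f ≫ g)) (h := cokernel.π g) ?_
      simp }

variable {X : Scheme.{u}} (M : X.Modules) (N : ℕ)

omit M N in
theorem isInvertible_structureModule (X : Scheme.{u}) : PicF.IsInvertible (Coh.structureModule X) :=
  fun _ => ⟨⊤, trivial, ⟨Scheme.Modules.restrictUnitIso _⟩⟩

/-- Kodaira vanishing for the exterior powers of `E` twisted by the positive powers of `M`. -/
def PV (E : X.Modules) : Prop := ∀ (q : ℕ) (Ω : X.Modules), ExtPow.IsExtPow q E Ω → ∀ n i : ℕ, 1 ≤ n →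
  i + q + 1 ≤ N → Van (CohB1.tensorMod Ω (CohB1.tensorPow M n)) i

variable {M N}

theorem pv_c {E F : X.Modules} (hE : FlatMod.IsFinLocFree E) (e : c E = c F) (h : PV M N E) : PV M N F := by
  intro q Ω hΩ n i hn hi
  obtain ⟨A, hA⟩ := exists_pows hE
  have h1 : c (A q) = c Ω := c_extPow_unique e (hA q) hΩ
  refine van_c ?_ i (h q (A q) (hA q) n i hn hi)
  rw [c_tensor, c_tensor, h1]

theorem step (hM : PicF.IsInvertible M) {S : ShortComplex X.Modules} (hS : S.ShortExact)
    (h3 : FlatMod.IsFinLocFree S.X₃) (h1 : c S.X₁ = 1) (h : PV M N S.X₃) : PV M N S.X₂ := by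
  have hM' : ∀ n, FlatMod.IsFinLocFree (CohB1.tensorPow M n) := fun n => flf_of_inv (inv_pow hM n)
  have h1' : FlatMod.IsFinLocFreeOfRank 1 S.X₁ := by
    rw [Groth.Agent.Ega2.QCohLocal.isFinLocFreeOfRank_one_iff]
    exact inv_c h1.symm (isInvertible_structureModule X)
  intro q Ω hΩ n i hn hi
  cases q with
  | zero =>
    have h0 : c Ω = 1 := c_extPow_unique rfl hΩ (isExtPow_zero _)
    refine van_c ?_ i (h 0 _ (isExtPow_zero _) n i hn hi)
    rw [c_tensor, c_tensor, h0, c_unit]
  | succ q =>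
    obtain ⟨A, hA⟩ := exists_pows h3
    obtain ⟨T, hT, ⟨t1⟩, ⟨t2⟩, ⟨t3⟩⟩ := K882.ExtLine.exists_shortExact hS h3 h1' q hΩ (hA q) (hA (q + 1))
    have hT' := tensor_shortExact (hM' n) hT
    have c1 : c (tensorShort (CohB1.tensorPow M n) T).X₁ =
        c (CohB1.tensorMod (A q) (CohB1.tensorPow M n)) := by
      change c (CohB1.tensorMod _ T.X₁) = _
      rw [c_tensor, c_tensor, c_iso t1, c_tensor, h1, one_mul, mul_comm]
    have c2 : c (tensorShort (CohB1.tensorPow M n) T).X₂ =
        c (CohB1.tensorMod Ω (CohB1.tensorPow M n)) := by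
      change c (CohB1.tensorMod _ T.X₂) = _
      rw [c_tensor, c_tensor, c_iso t2, mul_comm]
    have c3 : c (tensorShort (CohB1.tensorPow M n) T).X₃ =
        c (CohB1.tensorMod (A (q + 1)) (CohB1.tensorPow M n)) := by
      change c (CohB1.tensorMod _ T.X₃) = _
      rw [c_tensor, c_tensor, c_iso t3, mul_comm]
    refine van_c c2 i (van₂ hT' i (van_c c1.symm i (h q _ (hA q) n i hn (by omega)))
      (van_c c3.symm i (h (q + 1) _ (hA (q + 1)) n i hn hi)))

/-- the free module of rank `r + 1` as an extension -/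
theorem nonempty_freeMod_succ (n : ℕ) :
    Nonempty (FlatMod.freeMod X (n + 1) ≅ Coh.structureModule X ⊞ FlatMod.freeMod X n) := by
  let t₁ := coproductIsCoproduct (fun _ : Fin n => Coh.structureModule X)
  let t₂ := BinaryBiproduct.isColimit (Coh.structureModule X) (∐ fun _ : Fin n => Coh.structureModule X)
  exact ⟨(coproductIsCoproduct (fun _ : Fin (n + 1) => Coh.structureModule X)).coconePointUniqueUpToIso
    (extendCofanIsColimit (fun _ : Fin (n + 1) => Coh.structureModule X) t₁ t₂)⟩

theorem isZero_freeMod_zero : IsZero (FlatMod.freeMod X 0) := by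
  rw [IsZero.iff_id_eq_zero]
  exact Sigma.hom_ext _ _ fun i => i.elim0

theorem main (hM : PicF.IsInvertible M) (r : ℕ) : ∀ (S : ShortComplex X.Modules) (_ : S.ShortExact)
    (_ : FlatMod.IsFinLocFree S.X₃) (_ : Nonempty (S.X₁ ≅ FlatMod.freeMod X r)) (_ : PV M N S.X₃),
    PV M N S.X₂ ∧ FlatMod.IsFinLocFree S.X₂ := by
  induction r with
  | zero =>
    rintro S hS h3 ⟨e⟩ h
    have h0 : IsZero S.X₁ := IsZero.of_iso isZero_freeMod_zero e
    have e' : c S.X₃ = c S.X₂ := c_iso (K882.ExtLine.isoOfZero hS h0).symm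
    exact ⟨pv_c h3 e' h, flf_c e' h3⟩
  | succ r ih =>
    rintro S hS h3 ⟨e⟩ h
    obtain ⟨ej⟩ := nonempty_freeMod_succ (X := X) r
    have := hS.mono_f
    let a : FlatMod.freeMod X r ⟶ S.X₁ := biprod.inr ≫ (e ≪≫ ej).inv
    have ha : Mono a := mono_comp _ _
    have hthird := third_iso a S.f
    have h3' : c S.X₃ = c (cokernel S.f) :=
      c_iso (hS.gIsCokernel.coconePointUniqueUpToIso (colimit.isColimit _))
    have hc : c (cokernel a) = 1 :=
      c_iso (cokernelCompIsIso _ _ ≪≫ cokernelBiprodInrIso)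
    have hstep := step (N := N) hM hthird (flf_c h3' h3) hc (pv_c h3 h3' h)
    have hflf : FlatMod.IsFinLocFree (cokernel (a ≫ S.f)) :=
      Groth.Agent.Sga67.LocBasis.isFinLocFree_of_shortExact hthird
        (flf_c hc.symm (flf_of_inv (isInvertible_structureModule X)))
        (flf_c h3' h3)
    have hsec : (ShortComplex.mk (a ≫ S.f) (cokernel.π (a ≫ S.f)) (cokernel.condition _)).ShortExact :=
      { exact := ShortComplex.exact_cokernel _
        mono_f := mono_comp _ _ }
    have hfin := ih _ hsec hflf ⟨Iso.refl _⟩ hstep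
    exact hfin

end K415.ExtVan
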