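import Groth.Agent.Ega3B.NearFibre
import Groth.Agent.Ega1.GlobGenPt
import Groth.Agent.VarietyB.GlobGen
import Groth.Agent.CurvesC.GGSec
import Groth.Agent.Fdesc.PullbackStalk
import Groth.Agent.Coh.K415.DualEmb

/-!
# Global generation through the direct image
-/

set_option autoImplicit false
universe u

open CategoryTheory CategoryTheory.Limits AlgebraicGeometry Opposite TensorProduct TopologicalSpace

namespace K415.LiftFib

open Groth.Agent.Ega3B Groth.Agent.Ega3B.EqzSections Groth.Agent.VarietyB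
  Groth.Agent.Ega3B.PackageAsm Groth.Agent.Fdesc Groth.Agent.Fdesc.LocGen Groth.Agent

variable {X Y : Scheme.{u}}

/-- If `L` restricted to the fibre has a section generating at a point, and `H^1` of the fibre
vanishes, there is a section of `L` over the preimage of an open neighbourhood of the base point
generating at that point. -/
theorem exists_near (f : X ⟶ Y) [IsProper f] [Flat f] [IsLocallyNoetherian Y] (y : Y)
    (L : X.Modules) (hL : PicF.IsInvertible L)
    (h1 : Subsingleton (Coh.HH (f.fiber y) ((Scheme.Modules.pullback (f.fiberι y)).obj L) 1))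
    (z : f.fiber y) (s₀ : Coh.structureModule (f.fiber y) ⟶
      (Scheme.Modules.pullback (f.fiberι y)).obj L)
    (hz : z ∈ CohB1.genLocus _ s₀) :
    ∃ (W : Y.Opens) (_ : y ∈ W) (m : Γ(L, f ⁻¹ᵁ W)) (V : X.Opens) (h : V ≤ f ⁻¹ᵁ W),
      f.fiberι y z ∈ V ∧ IsGen (res L h m) := by
  obtain ⟨W, hW, hyW, -⟩ := exists_isAffineOpen_mem_and_subset (x := y) (U := ⊤) trivial
  obtain ⟨g, q, σ, hg, H, -⟩ := EtPoint.exists_square f hW ⟨y, hyW⟩
  obtain ⟨ε⟩ := FibreResid.nonempty_fiberMod_iso f L y (f ⁻¹ᵁ W) g hg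
  have h : Subsingleton (CohIII.fiberH f L y 1) := h1
  have hcoh : Coh.IsCoh L := PerfA.CohSerre.isCoh_of_isFinLocFree
    (NearFibre.isFinLocFree_of_isInvertible hL)
  let s₁ : Coh.structureModule (f.fiber y) ⟶
    (Scheme.Modules.pullback g).obj (L.restrict (f ⁻¹ᵁ W).ι) := s₀ ≫ ε.inv
  let V₀ := CohB1.genLocus _ s₀
  have hgen₀ : IsGen (sec s₁ V₀) := by
    have h2 : sec s₁ V₀ = ε.inv.app V₀ (sec s₀ V₀) := sec_comp s₀ ε.inv V₀
    rw [h2]
    exact ((le_genLocus_iff s₀ V₀).mp le_rfl).app ε.inv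
  obtain ⟨a, s, ha, hs⟩ := LiftSection.exists_lift_W f L hcoh
    (NearFibre.isFlatOver_of_isInvertible f hL)
    hW ⟨y, hyW⟩ (NearFibre.fibreSec f L hcoh.1 hW ⟨y, hyW⟩ 1) h g q H (sec s₁ (g ⁻¹ᵁ ⊤))
  have hunit : IsUnit (secMap q (g ⁻¹ᵁ ⊤) (algebraMap Γ(Y, W)
      (hW.primeIdealOf ⟨y, hyW⟩).asIdeal.ResidueField a)) := by
    refine IsUnit.map _ (IsUnit.mk0 _ ?_)
    rw [Ne, Ideal.algebraMap_residueField_eq_zero]
    exact ha
  have hN' := NearFibre.isInvertible_restrict hL (f ⁻¹ᵁ W)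
  have hgl : z ∈ g ⁻¹ᵁ (CohB1.genLocus _ (homOf s)) := by
    rw [← Ega1.AmpFam.genLocus_pullHom g hN' (homOf s)]
    have h3 : V₀ ≤ CohB1.genLocus _ (pullHom g (homOf s)) := by
      rw [le_genLocus_iff]
      have h2 : sec (pullHom g (homOf s)) (g ⁻¹ᵁ ⊤) = pullSec g s := by
        rw [sec_pullHom, sec_homOf, res_refl]
      have hle : V₀ ≤ g ⁻¹ᵁ ⊤ := le_top
      have h4 : sec (pullHom g (homOf s)) V₀ = res _ hle (pullSec g s) := by
        rw [← h2, res_sec]
      rw [h4, hs, res_smul]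
      have h5 : res _ hle (sec s₁ (g ⁻¹ᵁ ⊤)) = sec s₁ V₀ := res_sec _ _
      rw [h5]
      exact hgen₀.unit_smul (hunit.map _)
    exact h3 hz
  obtain ⟨m, rfl⟩ := (toRestrict (M := L) (f ⁻¹ᵁ W).ι (U := ⊤)).surjective s
  set G := CohB1.genLocus _ (homOf (toRestrict (M := L) (f ⁻¹ᵁ W).ι m)) with hG
  have hGm : IsGen (LocGen.res L ((f ⁻¹ᵁ W).ι.image_mono (le_top : G ≤ ⊤)) m) := by
    have h3 := isGen_sec_genLocus (homOf (toRestrict (M := L) (f ⁻¹ᵁ W).ι m))
    rw [sec_homOf, res_toRestrict, isGen_toRestrict_iff] at h3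
    exact h3
  have h7 : f ⁻¹ᵁ W ≤ (f ⁻¹ᵁ W).ι ''ᵁ ⊤ := by
    rw [Scheme.Opens.ι_image_top]
  have h8 : (f ⁻¹ᵁ W).ι ''ᵁ G ≤ f ⁻¹ᵁ W :=
    ((f ⁻¹ᵁ W).ι.image_mono (le_top : G ≤ ⊤)).trans (by rw [Scheme.Opens.ι_image_top])
  refine ⟨W, hyW, LocGen.res L h7 m, (f ⁻¹ᵁ W).ι ''ᵁ G, h8, ⟨g z, hgl, ?_⟩, ?_⟩
  · rw [← hg]
    rfl
  · rw [res_res]
    exact hGm

/-- Global generation of `L` from that of the direct image and of the restrictions to closed
fibres. -/
theorem main (f : X ⟶ Y) [IsProper f] [Flat f] [IsLocallyNoetherian Y] [CompactSpace X]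
    (L : X.Modules) (hL : PicF.IsInvertible L)
    (h2 : ∀ y : Y, IsClosed ({y} : Set Y) →
      Subsingleton (Coh.HH (f.fiber y) ((Scheme.Modules.pullback (f.fiberι y)).obj L) 1))
    (hfib : ∀ y : Y, IsClosed ({y} : Set Y) →
      Curv2.IsGloballyGenerated ((Scheme.Modules.pullback (f.fiberι y)).obj L))
    (hE : Curv2.IsGloballyGenerated ((Scheme.Modules.pushforward f).obj L)) :
    Curv2.IsGloballyGenerated L := by
  have key : ∀ x : X, IsClosed ({x} : Set X) → ∃ s : Coh.structureModule X ⟶ L,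
      x ∈ CohB1.genLocus L s := by
    intro x hx
    by_contra hcon
    push Not at hcon
    have hy : IsClosed ({f x} : Set Y) := by
      have h := f.isClosedMap _ hx
      rwa [Set.image_singleton] at h
    have hxr : x ∈ Set.range (f.fiberι (f x)) := by
      rw [f.range_fiberι]
      rfl
    obtain ⟨z, hz⟩ := hxr
    obtain ⟨s₀, hs₀⟩ := Ega1.GlobGenPt.exists_mem_genLocus
      (isInvertible_pullback (f.fiberι (f x)) hL) (hfib _ hy) z
    obtain ⟨W, hyW, m, V, hV, hzV, hgen⟩ := exists_near f (f x) L hL (h2 _ hy) z s₀ hs₀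
    rw [hz] at hzV
    obtain ⟨ι, e, he⟩ := CurvesC.GGSec.exists_sections_of_isGloballyGenerated hE
    have hsec : ∀ t : Γ(L, ⊤), L.presheaf.germ ⊤ x trivial t ∈
        (IsLocalRing.maximalIdeal (X.presheaf.stalk x) •
        (⊤ : Submodule (X.presheaf.stalk x) (L.presheaf.stalk x))) := by
      intro t
      obtain ⟨U, e, hxU, he⟩ := (isInvertible_iff L).1 hL x
      obtain ⟨a, ha⟩ := he.exists_eq (sec (homOf t) U)
      have h1 := genLocus_inf_eq (homOf t) he ha
      have h2 : x ∉ X.basicOpen a := by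
        rw [← h1]
        exact fun h => hcon (homOf t) h.1
      rw [Scheme.mem_basicOpen X _ x hxU] at h2
      have h3 : L.presheaf.germ ⊤ x trivial t = L.presheaf.germ U x hxU (sec (homOf t) U) := by
        rw [sec_homOf, Ega1.GlobGenPt.germ_res]
      rw [h3, ha, Skyscraper.germ_smul]
      exact Submodule.smul_mem_smul ((IsLocalRing.mem_maximalIdeal _).2 h2) Submodule.mem_top
    have hmem : ∀ t : ((Scheme.Modules.pushforward f).obj L).presheaf.stalk (f x),
        PullbackStalk.pushAdd f L x t ∈ (IsLocalRing.maximalIdeal (X.presheaf.stalk x) •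
        (⊤ : Submodule (X.presheaf.stalk x) (L.presheaf.stalk x))) := by
      intro t
      have ht : t ∈ Submodule.span (Y.presheaf.stalk (f x)) (Set.range fun i =>
          ((Scheme.Modules.pushforward f).obj L).presheaf.germ ⊤ (f x) trivial (e i)) := by
        rw [he]; trivial
      induction ht using Submodule.span_induction with
      | mem t ht =>
        obtain ⟨i, rfl⟩ := ht
        have h3 := PullbackStalk.pushAdd_germ f L x ⊤ trivial (e i)
        beta_reduce
        refine (congrArg (fun t => t ∈ (IsLocalRing.maximalIdeal (X.presheaf.stalk x) •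
          (⊤ : Submodule (X.presheaf.stalk x) (L.presheaf.stalk x)))) h3).mpr ?_
        exact hsec (e i)
      | zero => rw [map_zero]; exact Submodule.zero_mem _
      | add a b _ _ iha ihb => rw [map_add]; exact Submodule.add_mem _ iha ihb
      | smul r a _ iha =>
        have h3 := PullbackStalk.pushAdd_smul f L x r a
        refine (congrArg (fun t => t ∈ (IsLocalRing.maximalIdeal (X.presheaf.stalk x) •
          (⊤ : Submodule (X.presheaf.stalk x) (L.presheaf.stalk x)))) h3).mpr ?_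
        exact Submodule.smul_mem _ _ iha
    have h4 := hmem (((Scheme.Modules.pushforward f).obj L).presheaf.germ W (f x) hyW m)
    have h5 := PullbackStalk.pushAdd_germ f L x W hyW m
    have h6 : L.presheaf.germ (f ⁻¹ᵁ W) x hyW m = L.presheaf.germ V x hzV (res L hV m) :=
      (Ega1.GlobGenPt.germ_res L hV x hzV m).symm
    have h7 := h5.trans h6
    exact Ega1.GlobGenPt.germ_notMem_smul_top hgen x hzV (h7 ▸ h4)
  have all : ∀ x : X, ∃ s : Coh.structureModule X ⟶ L, x ∈ CohB1.genLocus L s := by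
    by_contra hcon
    push Not at hcon
    obtain ⟨x, hx⟩ := hcon
    have hC : IsClosed (⋂ s : (Coh.structureModule X ⟶ L), ((CohB1.genLocus L s : Set X))ᶜ) :=
      isClosed_iInter fun s => (CohB1.genLocus L s).isOpen.isClosed_compl
    obtain ⟨x', hx', hcl⟩ := hC.exists_closed_singleton ⟨x, Set.mem_iInter.mpr hx⟩
    obtain ⟨s, hs⟩ := key x' hcl
    exact (Set.mem_iInter.mp hx' s) hs
  exact VarietyB.GlobGen.isGloballyGenerated_of_cover
    (fun s : (Coh.structureModule X ⟶ L) => s) all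

end K415.LiftFib
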