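import Groth.Agent.S0554
import Mathlib.RingTheory.ZariskisMainTheorem
import Mathlib.RingTheory.Jacobson.Artinian
import Mathlib.RingTheory.HopkinsLevitzki

/-!
# Quasi-finiteness over primes of height at most one

`A → B` a finite type extension of domains, `A` Noetherian, `trdeg_A B = 0`: then `B` is quasi-finite over `A`
at every prime of `B` lying over a prime of height at most one of `A`.
-/

set_option autoImplicit false
universe u

namespace K415.QFHeight

open Algebra TensorProduct

variable {A B : Type u} [CommRing A] [IsDomain A] [IsNoetherianRing A]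
  [CommRing B] [IsDomain B] [Algebra A B] [FaithfulSMul A B] [Algebra.FiniteType A B]

theorem height_le (htr : Algebra.trdeg A B = 0) (p : Ideal A) [p.IsPrime]
    (q : Ideal B) [q.IsPrime] [q.LiesOver p] : q.height ≤ p.height := by
  have h := Groth.Agent.S0554.result A B p q
  rw [htr, add_zero] at h
  have h1 : (q.height : Cardinal.{u}) ≤ (p.height : Cardinal.{u}) := le_self_add.trans h
  exact_mod_cast h1

theorem eq_of_le (htr : Algebra.trdeg A B = 0) (p : Ideal A) [p.IsPrime] (hp : p.height ≤ 1)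
    (q q' : Ideal B) [q.IsPrime] [q'.IsPrime] [q.LiesOver p] [q'.LiesOver p] (h : q ≤ q') :
    q = q' := by
  by_contra hne
  have hlt : q < q' := lt_of_le_of_ne h hne
  have h1 : q.height + 1 ≤ q'.height := Ideal.height_add_one_le_of_lt_of_isPrime hlt
  have h2 := height_le htr p q'
  have h3 : q.height = 0 := by
    have h4 : q.height + 1 ≤ 0 + 1 := (h1.trans h2).trans (by simpa using hp)
    have h5 : q.height ≤ 0 := (ENat.add_le_add_iff_right (by simp)).1 h4
    simpa using h5
  have h4 : q = ⊥ := Ideal.height_eq_zero_iff_eq_bot.1 h3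
  have h5 : p = ⊥ := by
    have h6 : p = q.under A := q.over_def p
    rw [h6, h4]
    exact Ideal.under_bot A B
  have h6 : p.height = 0 := by rw [h5]; exact Ideal.height_bot
  rw [h3, zero_add] at h1
  rw [h6] at h2
  exact absurd (h1.trans h2) (by simp)

theorem krullDimLE_fiber (htr : Algebra.trdeg A B = 0) (p : Ideal A) [p.IsPrime]
    (hp : p.height ≤ 1) : Ring.KrullDimLE 0 (p.Fiber B) := by
  rw [Ring.krullDimLE_zero_iff]
  intro Q hQ
  obtain ⟨M, hM, hQM⟩ := Ideal.exists_le_maximal Q hQ.ne_top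
  have hMp : M.IsPrime := hM.isPrime
  let e := PrimeSpectrum.primesOverOrderIsoFiber A B p
  let x : p.primesOver B := e.symm ⟨Q, hQ⟩
  let y : p.primesOver B := e.symm ⟨M, hMp⟩
  have hxy : x ≤ y := e.symm.monotone (show (⟨Q, hQ⟩ : PrimeSpectrum _) ≤ ⟨M, hMp⟩ from hQM)
  have hx1 : x.1.IsPrime := x.2.1
  have hy1 : y.1.IsPrime := y.2.1
  have hx2 : x.1.LiesOver p := x.2.2
  have hy2 : y.1.LiesOver p := y.2.2
  have h1 : x.1 = y.1 := eq_of_le htr p hp x.1 y.1 hxy
  have h2 : x = y := Subtype.ext h1
  have h3 : (⟨Q, hQ⟩ : PrimeSpectrum (p.Fiber B)) = ⟨M, hMp⟩ := e.symm.injective h2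
  have h4 : Q = M := congrArg PrimeSpectrum.asIdeal h3
  rw [h4]
  exact hM

theorem quasiFiniteAt (htr : Algebra.trdeg A B = 0) (p : Ideal A) [p.IsPrime] (hp : p.height ≤ 1)
    (q : Ideal B) [q.IsPrime] [q.LiesOver p] : Algebra.QuasiFiniteAt A q := by
  have h0 := krullDimLE_fiber (B := B) htr p hp
  have h1 : Algebra.FiniteType p.ResidueField (p.Fiber B) := inferInstance
  have h2 : IsNoetherianRing (p.Fiber B) := Algebra.FiniteType.isNoetherianRing p.ResidueField _
  have h3 : IsArtinianRing (p.Fiber B) := IsNoetherianRing.isArtinianRing_of_krullDimLE_zero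
  have h4 : Module.Finite p.ResidueField (p.Fiber B) :=
    Module.finite_of_isArtinianRing p.ResidueField (p.Fiber B)
  let e := PrimeSpectrum.primesOverOrderIsoFiber A B p
  let Q : PrimeSpectrum (p.Fiber B) := e ⟨q, ‹_›, ‹_›⟩
  have hQ : Q.asIdeal.comap Algebra.TensorProduct.includeRight.toRingHom = q := by
    have h5 := PrimeSpectrum.coe_primesOverOrderIsoFiber_symm_apply (R := A) (S := B) (p := p) Q
    have h6 : e.symm Q = ⟨q, ‹_›, ‹_›⟩ := e.symm_apply_apply _
    have h7 := congrArg Subtype.val h6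
    exact h5.symm.trans h7
  have h5 : Algebra.QuasiFiniteAt p.ResidueField Q.asIdeal := inferInstance
  exact Algebra.QuasiFiniteAt.of_quasiFiniteAt_residueField p q Q.asIdeal hQ

end K415.QFHeight
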