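import Mathlib.Algebra.Homology.ExactSequence
import Mathlib.CategoryTheory.Abelian.Projective.Dimension
import Mathlib.CategoryTheory.Abelian.Exact
import Mathlib.Algebra.Homology.ShortComplex.ExactFunctor

/-!
# Projective dimension of a syzygy in an exact sequence with projective middle terms
-/

set_option autoImplicit false
open CategoryTheory CategoryTheory.Limits

namespace K415.Syzygy

universe v₁ v₂ u₁ u₂

variable {C : Type u₁} [Category.{v₁} C] [Abelian C] {D : Type u₂} [Category.{v₂} D] [Abelian D]
  (P : C ⥤ D) [P.Additive] [PreservesFiniteLimits P] [PreservesFiniteColimits P]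

/-- `0 → ker f → A → ker g → 0` for `A → B → C` exact at `B`. -/
lemma shortExact_kernel {S : ShortComplex C} (hS : S.Exact) :
    (ShortComplex.mk (kernel.ι S.f) (kernel.lift S.g S.f S.zero)
      (by rw [← cancel_mono (kernel.ι S.g), Category.assoc, kernel.lift_ι, kernel.condition,
        zero_comp])).ShortExact := by
  have : Epi (kernel.lift S.g S.f S.zero) := hS.epi_kernelLift
  refine { exact := ?_, mono_f := inferInstanceAs (Mono (kernel.ι S.f)), epi_g := this }
  refine ShortComplex.exact_of_f_is_kernel _ ?_
  refine KernelFork.IsLimit.ofι _ _ (fun {W} k hk ↦ kernel.lift S.f k ?_) ?_ ?_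
  · have := congr($hk ≫ kernel.ι S.g)
    simpa using this
  · intro W k hk
    simp
  · intro W k hk l hl
    rw [← cancel_mono (kernel.ι S.f)]
    simpa using hl

/-- The kernels `K_i` of `S_i → S_{i+1}`, `1 ≤ i ≤ m`, in an exact sequence
`S_0 → S_1 → ⋯ → S_m → S_{m+1} → 0`, with `S_1, …, S_m` becoming projective under the exact `P`. -/
lemma pd_kernel {m : ℕ} (S : ComposableArrows C (m + 1)) (hS : S.Exact)
    (hepi : Epi (S.map' m (m + 1)))
    (hproj : ∀ i (_ : 1 ≤ i) (hi : i ≤ m), Projective (P.obj (S.obj' i (by omega)))) (n j : ℕ) :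
    ∀ (i : ℕ) (hi : 1 ≤ i) (hij : i + j = m),
      HasProjectiveDimensionLT (P.obj (S.obj' (m + 1))) (n + 1 + j + 1) →
      HasProjectiveDimensionLT (P.obj (kernel (S.map' i (i + 1)))) (n + 1) := by
  induction j generalizing n with
  | zero =>
    intro i hi hij h
    obtain rfl : i = m := by omega
    have hse : (ShortComplex.mk (kernel.ι (S.map' i (i + 1))) (S.map' i (i + 1))
        (kernel.condition _)).ShortExact :=
      { exact := ShortComplex.exact_kernel _
        mono_f := inferInstance
        epi_g := hepi }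
    have hse' := hse.map_of_exact P
    have hp : Projective (P.obj (S.obj' i (by omega))) := hproj i hi le_rfl
    exact hse'.hasProjectiveDimensionLT_X₁ (n + 1)
      (hasProjectiveDimensionLT_of_ge (P.obj (S.obj' i (by omega))) 1 (n + 1) (by omega)) h
  | succ j ih =>
    intro i hi hij h
    have h1 := ih (n + 1) (i + 1) (by omega) (by omega) (by
      have e : n + 1 + 1 + j + 1 = n + 1 + (j + 1) + 1 := by omega
      rw [e]; exact h)
    have hse := (shortExact_kernel (hS.exact i (by omega))).map_of_exact P
    have hp : Projective (P.obj (S.obj' i (by omega))) := hproj i hi (by omega)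
    exact hse.hasProjectiveDimensionLT_X₁ (n + 1)
      (hasProjectiveDimensionLT_of_ge (P.obj (S.obj' i (by omega))) 1 (n + 1) (by omega)) h1

/-- `S_0` is the kernel of `S_1 → S_2`. -/
lemma nonempty_isoKernel {n : ℕ} (S : ComposableArrows C n) (hn : 2 ≤ n) (hS : S.Exact)
    (hmono : Mono (S.map' 0 1 (by omega) (by omega))) :
    Nonempty (S.obj' 0 ≅ kernel (S.map' 1 2 (by omega) (by omega))) := by
  have h := hS.exact 0 (by omega)
  let T := S.sc hS.toIsComplex 0 (by omega)
  have h1 : Epi (kernel.lift T.g T.f T.zero) := h.epi_kernelLift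
  have h2 : Mono (kernel.lift T.g T.f T.zero) := by
    have : Mono (kernel.lift T.g T.f T.zero ≫ kernel.ι T.g) := by
      rw [kernel.lift_ι]; exact hmono
    exact mono_of_mono _ (kernel.ι T.g)
  have h3 : IsIso (kernel.lift T.g T.f T.zero) := isIso_of_mono_of_epi _
  exact ⟨asIso (kernel.lift T.g T.f T.zero)⟩

end K415.Syzygy
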