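import Mathlib.RingTheory.Ideal.AssociatedPrime.Finiteness
import Mathlib.RingTheory.Finiteness.Bilinear
import Mathlib.RingTheory.Finiteness.Subalgebra
import Mathlib.RingTheory.Polynomial.Basic
import Mathlib.RingTheory.Noetherian.Defs
import Mathlib.LinearAlgebra.Dual.Lemmas
import Mathlib.LinearAlgebra.Basis.VectorSpace
import Mathlib.RingTheory.FiniteType
import Mathlib.Data.Finsupp.Encodable
import Mathlib.RingTheory.MvPolynomial.Basic

/-!
# Decreasing sequences of submodules whose completion is locally generated by a countable module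

`A` is a Noetherian algebra of countable dimension over a field `k`, `M` an `A`-module of countable
dimension, `H 0 ≥ H 1 ≥ ⋯` submodules and `p` a prime. `core`: if every element of `lim M / H n` is
of the form `g / f`, `f ∉ p`, after inverting `f`, then `H n` becomes constant, `n` large, after
inverting some `f ∉ p`.
-/

set_option autoImplicit false

namespace K415.TowerAlg

open scoped Pointwise

universe u v w

/-- On a finite module over a Noetherian ring, the torsion for powers of `a` is killed by `a ^ e`,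
with `e` independent of `a`. -/
theorem exists_uniform_exponent {A : Type u} [CommRing A] [IsNoetherianRing A] (L : Type v)
    [AddCommGroup L] [Module A L] [hL : Module.Finite A L] :
    ∃ e : ℕ, ∀ (a : A) (l : L) (N : ℕ), a ^ N • l = 0 → a ^ e • l = 0 := by
  refine IsNoetherianRing.induction_on_isQuotientEquivQuotientPrime A hL
    (motive := fun L _ _ _ ↦ ∃ e : ℕ, ∀ (a : A) (l : L) (N : ℕ), a ^ N • l = 0 → a ^ e • l = 0)
    ?_ ?_ ?_
  · intro L _ _ _ _
    exact ⟨0, fun a l N _ ↦ Subsingleton.elim _ _⟩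
  · intro L _ _ _ p e
    refine ⟨1, fun a l N h ↦ ?_⟩
    have hp := p.2
    apply e.injective
    have h1 : a ^ N • e l = 0 := by rw [← map_smul, h, map_zero]
    rw [map_smul, map_zero, pow_one]
    obtain ⟨b, hb⟩ := Ideal.Quotient.mk_surjective (e l)
    rw [← hb] at h1 ⊢
    have h2 : ∀ c : A, c • (Ideal.Quotient.mk p.1 b) = Ideal.Quotient.mk p.1 (c * b) := fun c ↦ rfl
    rw [h2, Ideal.Quotient.eq_zero_iff_mem] at h1 ⊢
    rcases hp.mem_or_mem h1 with h3 | h3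
    · exact Ideal.mul_mem_right _ _ (hp.mem_of_pow_mem _ h3)
    · exact Ideal.mul_mem_left _ _ h3
  · intro N₁ _ _ _ N₂ _ _ _ N₃ _ _ _ f g hf hg hfg h1 h3
    obtain ⟨e₁, h1⟩ := h1
    obtain ⟨e₃, h3⟩ := h3
    refine ⟨e₁ + e₃, fun a l N h ↦ ?_⟩
    have h4 : a ^ e₃ • g l = 0 := h3 a (g l) N (by rw [← map_smul, h, map_zero])
    rw [← map_smul] at h4
    obtain ⟨y, hy⟩ := (hfg _).1 h4
    have h5 : a ^ N • y = 0 := by
      apply hf
      rw [map_smul, hy, smul_comm, h, smul_zero, map_zero]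
    rw [pow_add, mul_smul, ← hy, ← map_smul, h1 a y N h5, map_zero]

section Poly

variable {k : Type u} [Field k] {ι : Type w} {V : Type v} [AddCommGroup V] [Module k V]

/-- Maps from `k ^ ι` all of whose compositions with linear forms are polynomial. -/
def IsPoly (φ : (ι → k) → V) : Prop :=
  ∀ l : V →ₗ[k] k, ∃ q : MvPolynomial ι k, ∀ x, l (φ x) = MvPolynomial.eval x q

lemma isPoly_sum {κ : Type*} (s : Finset κ) (φ : κ → (ι → k) → V) (h : ∀ i ∈ s, IsPoly (φ i)) :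
    IsPoly (fun x ↦ ∑ i ∈ s, φ i x) := by
  classical
  intro l
  choose! q hq using fun i (hi : i ∈ s) ↦ h i hi l
  refine ⟨∑ i ∈ s, q i, fun x ↦ ?_⟩
  rw [map_sum, map_sum]
  exact Finset.sum_congr rfl fun i hi ↦ hq i hi x

lemma isPoly_coord_smul (i : ι) {φ : (ι → k) → V} (h : IsPoly φ) :
    IsPoly (fun x ↦ x i • φ x) := by
  intro l
  obtain ⟨q, hq⟩ := h l
  refine ⟨MvPolynomial.X i * q, fun x ↦ ?_⟩
  rw [map_smul, hq, map_mul, MvPolynomial.eval_X, smul_eq_mul]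

lemma isPoly_const (v : V) : IsPoly (fun _ : ι → k ↦ v) :=
  fun l ↦ ⟨MvPolynomial.C (l v), fun x ↦ by rw [MvPolynomial.eval_C]⟩

lemma isPoly_comp {W : Type*} [AddCommGroup W] [Module k W] (T : V →ₗ[k] W) {φ : (ι → k) → V}
    (h : IsPoly φ) : IsPoly (fun x ↦ T (φ x)) := fun l ↦ h (l ∘ₗ T)

/-- Decreasing zero sets of polynomial maps stabilize. -/
lemma stabilizes_zeros [Finite ι] {V : ℕ → Type v} [∀ n, AddCommGroup (V n)] [∀ n, Module k (V n)]
    (φ : ∀ n, (ι → k) → V n) (hφ : ∀ n, IsPoly (φ n))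
    (hanti : ∀ n m, n ≤ m → ∀ x, φ m x = 0 → φ n x = 0) :
    ∃ m₀, ∀ m, m₀ ≤ m → ∀ x, φ m₀ x = 0 → φ m x = 0 := by
  let I : ℕ →o Ideal (MvPolynomial ι k) :=
    { toFun := fun n ↦
        { carrier := {q | ∀ x, φ n x = 0 → MvPolynomial.eval x q = 0}
          add_mem' := fun {a b} ha hb x hx ↦ by rw [map_add, ha x hx, hb x hx, add_zero]
          zero_mem' := fun x _ ↦ map_zero _
          smul_mem' := fun a b hb x hx ↦ by rw [smul_eq_mul, map_mul, hb x hx, mul_zero] }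
      monotone' := fun n m hnm q hq x hx ↦ hq x (hanti n m hnm x hx) }
  obtain ⟨m₀, hm₀⟩ := monotone_stabilizes_iff_noetherian.2
    (inferInstance : IsNoetherian (MvPolynomial ι k) (MvPolynomial ι k)) I
  refine ⟨m₀, fun m hm x hx ↦ ?_⟩
  by_contra hne
  obtain ⟨l, hl⟩ : ∃ l : V m →ₗ[k] k, l (φ m x) ≠ 0 := by
    by_contra h
    push Not at h
    exact hne ((Module.forall_dual_apply_eq_zero_iff k _).1 h)
  obtain ⟨q, hq⟩ := hφ m l
  have h1 : q ∈ I m := fun y hy ↦ by rw [← hq y, hy, map_zero]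
  rw [← hm₀ m hm] at h1
  exact hl ((hq x).trans (h1 x hx))

end Poly

lemma mem_span_image_Iio {k : Type*} [Field k] {V : Type*} [AddCommGroup V] [Module k V] (b : ℕ → V)
    (hb : Submodule.span k (Set.range b) = ⊤) (v : V) : ∃ j, ∀ i, j ≤ i →
      v ∈ Submodule.span k (b '' Set.Iio i) := by
  have hv : v ∈ Submodule.span k (Set.range b) := by rw [hb]; trivial
  refine Submodule.span_induction ?_ ?_ ?_ ?_ hv
  · rintro _ ⟨i, rfl⟩
    exact ⟨i + 1, fun l hl ↦ Submodule.subset_span ⟨i, hl, rfl⟩⟩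
  · exact ⟨0, fun i _ ↦ zero_mem _⟩
  · rintro x y _ _ ⟨i, hi⟩ ⟨j, hj⟩
    exact ⟨max i j, fun l hl ↦ add_mem (hi l ((le_max_left _ _).trans hl))
      (hj l ((le_max_right _ _).trans hl))⟩
  · rintro c x _ ⟨i, hi⟩
    exact ⟨i, fun l hl ↦ Submodule.smul_mem _ _ (hi l hl)⟩

section Core

variable {k : Type u} [Field k] {A : Type v} [CommRing A] [Algebra k A] [IsNoetherianRing A]
  {M : Type w} [AddCommGroup M] [Module k M] [Module A M] [IsScalarTower k A M]

/-- The condition `y = 0` in `(M / H m)_f` on pairs `(f, y)` in finite dimensional spaces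
stabilizes. -/
theorem stab_pairs (A' : Submodule k A) (hA' : A'.FG) (M' : Submodule k M) (hM' : M'.FG)
    (H : ℕ → Submodule A M) (hH : Antitone H) :
    ∃ m₀, ∀ m, m₀ ≤ m → ∀ f ∈ A', ∀ y ∈ M', (∃ N : ℕ, f ^ N • y ∈ H m₀) →
      ∃ N : ℕ, f ^ N • y ∈ H m := by
  obtain ⟨r, a, ha⟩ := Submodule.fg_iff_exists_fin_generating_family.1 hA'
  obtain ⟨s, g, hg⟩ := Submodule.fg_iff_exists_fin_generating_family.1 hM'
  -- the finite submodule generated by `M'` in the quotients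
  have he : ∀ m : ℕ, ∃ e : ℕ, ∀ f ∈ A', ∀ y ∈ M', (∃ N : ℕ, f ^ N • y ∈ H m) ↔ f ^ e • y ∈ H m := by
    intro m
    let L : Submodule A (M ⧸ H m) := Submodule.span A (Set.range fun j ↦ (H m).mkQ (g j))
    have : Module.Finite A L := Module.Finite.span_of_finite A (Set.finite_range _)
    obtain ⟨e, he⟩ := exists_uniform_exponent (A := A) L
    refine ⟨e, fun f _ y hy ↦ ⟨?_, fun h ↦ ⟨e, h⟩⟩⟩
    rintro ⟨N, hN⟩
    have hyL : (H m).mkQ y ∈ L := by
      rw [← hg] at hy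
      refine Submodule.span_induction ?_ ?_ ?_ ?_ hy
      · rintro _ ⟨j, rfl⟩
        exact Submodule.subset_span ⟨j, rfl⟩
      · rw [map_zero]; exact zero_mem _
      · intro x y _ _ hx hy
        rw [map_add]; exact add_mem hx hy
      · intro c x _ hx
        have : (H m).mkQ (c • x) = algebraMap k A c • (H m).mkQ x := by
          rw [← map_smul, algebraMap_smul]
        rw [this]
        exact Submodule.smul_mem _ _ hx
    have h1 := he f ⟨(H m).mkQ y, hyL⟩ N (by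
      apply Subtype.ext
      change f ^ N • (H m).mkQ y = 0
      rw [← map_smul, Submodule.mkQ_apply, Submodule.Quotient.mk_eq_zero]
      exact hN)
    have h2 : f ^ e • (H m).mkQ y = 0 := congrArg Subtype.val h1
    rwa [← map_smul, Submodule.mkQ_apply, Submodule.Quotient.mk_eq_zero] at h2
  choose e he using he
  let F : (Fin r ⊕ Fin s → k) → A := fun x ↦ ∑ i, x (Sum.inl i) • a i
  let G : (Fin r ⊕ Fin s → k) → M := fun x ↦ ∑ j, x (Sum.inr j) • g j
  have hF : ∀ x, F x ∈ A' := fun x ↦ by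
    rw [← ha]
    exact Submodule.sum_mem _ fun i _ ↦ Submodule.smul_mem _ _ (Submodule.subset_span ⟨i, rfl⟩)
  have hG : ∀ x, G x ∈ M' := fun x ↦ by
    rw [← hg]
    exact Submodule.sum_mem _ fun i _ ↦ Submodule.smul_mem _ _ (Submodule.subset_span ⟨i, rfl⟩)
  have hpoly : ∀ n : ℕ, IsPoly (fun x ↦ F x ^ n • G x) := by
    intro n
    induction n with
    | zero =>
      simp only [pow_zero, one_smul]
      exact isPoly_sum _ _ fun j _ ↦ isPoly_coord_smul _ (isPoly_const _)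
    | succ n ih =>
      have h1 : (fun x ↦ F x ^ (n + 1) • G x) = fun x ↦ ∑ i, x (Sum.inl i) •
          (a i • (F x ^ n • G x)) := by
        funext x
        rw [pow_succ', mul_smul]
        change (∑ i, x (Sum.inl i) • a i) • (F x ^ n • G x) = _
        rw [Finset.sum_smul]
        exact Finset.sum_congr rfl fun i _ ↦ smul_assoc _ _ _
      rw [h1]
      refine isPoly_sum _ _ fun i _ ↦ isPoly_coord_smul _ ?_
      exact isPoly_comp (Algebra.lsmul k k M (a i)) ih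
  obtain ⟨m₀, hm₀⟩ := stabilizes_zeros (V := fun m ↦ M ⧸ (H m).restrictScalars k)
    (fun m x ↦ ((H m).restrictScalars k).mkQ (F x ^ e m • G x))
    (fun m ↦ isPoly_comp _ (hpoly (e m))) (by
      intro n m hnm x hx
      simp only [Submodule.mkQ_apply, Submodule.Quotient.mk_eq_zero,
        Submodule.restrictScalars_mem] at hx ⊢
      exact (he n _ (hF x) _ (hG x)).1 ⟨e m, hH hnm hx⟩)
  refine ⟨m₀, fun m hm f hf y hy h ↦ ?_⟩
  rw [← ha] at hf
  rw [← hg] at hy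
  obtain ⟨c, rfl⟩ := (Submodule.mem_span_range_iff_exists_fun k).1 hf
  obtain ⟨d, rfl⟩ := (Submodule.mem_span_range_iff_exists_fun k).1 hy
  have h1 := hm₀ m hm (Sum.elim c d)
  simp only [Submodule.mkQ_apply, Submodule.Quotient.mk_eq_zero,
    Submodule.restrictScalars_mem] at h1
  have h2 := (he m₀ _ (hF (Sum.elim c d)) _ (hG (Sum.elim c d))).1 h
  exact ⟨e m, h1 h2⟩

/-- The elements killed by a power of `f` modulo `H n`, as a condition on `f`. -/
def annRad (N : Submodule A M) (x : M) : Ideal A :=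
  Ideal.radical (LinearMap.ker (LinearMap.toSpanSingleton A (M ⧸ N) (N.mkQ x)))

omit [IsNoetherianRing A] in
lemma mem_annRad {N : Submodule A M} {x : M} {f : A} :
    f ∈ annRad N x ↔ ∃ n : ℕ, f ^ n • x ∈ N := by
  unfold annRad
  rw [Ideal.mem_radical_iff]
  refine exists_congr fun n ↦ ?_
  rw [LinearMap.mem_ker, LinearMap.toSpanSingleton_apply, ← map_smul, Submodule.mkQ_apply,
    Submodule.Quotient.mk_eq_zero]

omit [Module k M] [IsScalarTower k A M] in
/-- Last step: from elementwise statements to a uniform one. -/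
theorem exists_uniform (A' : Submodule k A) (hA' : A'.FG) (H : ℕ → Submodule A M) (hH : Antitone H)
    (p : Ideal A) (m₁ : ℕ)
    (h : ∀ x ∈ H m₁, ∀ n, ∃ f ∈ A', f ∉ p ∧ ∃ N : ℕ, f ^ N • x ∈ H n) :
    ∃ f : A, f ∉ p ∧ ∀ m, ∀ x ∈ H m₁, ∃ N : ℕ, f ^ N • x ∈ H m := by
  let C : ℕ → M → Submodule k A := fun n x ↦ A' ⊓ (annRad (H n) x).restrictScalars k
  have hC : ∀ n x f, f ∈ C n x ↔ f ∈ A' ∧ ∃ N : ℕ, f ^ N • x ∈ H n := fun n x f ↦ by
    change f ∈ A' ∧ f ∈ annRad (H n) x ↔ _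
    rw [mem_annRad]
  have hfin : ∀ n x, FiniteDimensional k (C n x) := fun n x ↦ by
    have : FiniteDimensional k A' := Module.Finite.iff_fg.2 hA'
    exact Submodule.finiteDimensional_of_le (inf_le_left : C n x ≤ A')
  -- a minimal one
  let T : Set ℕ := {d | ∃ n x, x ∈ H m₁ ∧ Module.finrank k (C n x) = d}
  have hT : T.Nonempty := ⟨_, 0, 0, zero_mem _, rfl⟩
  obtain ⟨n₁, x₁, hx₁, hd⟩ := Nat.sInf_mem hT
  obtain ⟨f, hfA, hfp, hfN⟩ := h x₁ hx₁ n₁
  refine ⟨f, hfp, fun m y hy ↦ ?_⟩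
  have hf : f ∈ C n₁ x₁ := (hC _ _ _).2 ⟨hfA, hfN⟩
  -- pass to a common index
  let n := max n₁ m
  have hle1 : C n x₁ ≤ C n₁ x₁ := by
    intro c hc
    rw [hC] at hc ⊢
    exact ⟨hc.1, hc.2.imp fun N hN ↦ hH (le_max_left _ _) hN⟩
  have heq : C n x₁ = C n₁ x₁ := by
    have := hfin n₁ x₁
    refine Submodule.eq_of_le_of_finrank_le hle1 ?_
    rw [hd]
    exact Nat.sInf_le ⟨n, x₁, hx₁, rfl⟩
  by_contra hne
  have hf' : ∃ N : ℕ, f ^ N • x₁ ∈ H n := by
    have : f ∈ C n x₁ := by rw [heq]; exact hf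
    exact ((hC _ _ _).1 this).2
  have hne' : ¬ ∃ N : ℕ, f ^ N • y ∈ H n := fun ⟨N, hN⟩ ↦ hne ⟨N, hH (le_max_right _ _) hN⟩
  let L : Submodule A (M ⧸ H n) := Submodule.span A {(H n).mkQ x₁, (H n).mkQ y}
  have : Module.Finite A L := Module.Finite.span_of_finite A (by simp)
  obtain ⟨e, he⟩ := exists_uniform_exponent (A := A) L
  have he' : ∀ (a : A) (l : M), (H n).mkQ l ∈ L → (∃ N : ℕ, a ^ N • l ∈ H n) → a ^ e • l ∈ H n := by
    rintro a l hl ⟨N, hN⟩
    have h1 := he a ⟨(H n).mkQ l, hl⟩ N (by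
      apply Subtype.ext
      change a ^ N • (H n).mkQ l = 0
      rw [← map_smul, Submodule.mkQ_apply, Submodule.Quotient.mk_eq_zero]
      exact hN)
    have h2 : a ^ e • (H n).mkQ l = 0 := congrArg Subtype.val h1
    rwa [← map_smul, Submodule.mkQ_apply, Submodule.Quotient.mk_eq_zero] at h2
  let z : M := x₁ + f ^ e • y
  have hz : z ∈ H m₁ := add_mem hx₁ (Submodule.smul_mem _ _ hy)
  have hlt : C n z < C n x₁ := by
    refine lt_of_le_of_ne ?_ ?_
    · intro d hd'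
      rw [hC] at hd' ⊢
      refine ⟨hd'.1, ?_⟩
      obtain ⟨M₀, hM₀⟩ := hd'.2
      refine ⟨M₀, ?_⟩
      obtain ⟨N, hN⟩ := hf'
      -- `f ^ (N + e) • d ^ M₀ • y ∈ H n`
      have h1 : f ^ (N + e) • (d ^ M₀ • y) ∈ H n := by
        have h2 : f ^ N • (d ^ M₀ • z) - d ^ M₀ • (f ^ N • x₁) = f ^ (N + e) • (d ^ M₀ • y) := by
          simp only [z, smul_add, smul_smul]
          rw [show d ^ M₀ * f ^ N = f ^ N * d ^ M₀ by ring,
            show f ^ N * (d ^ M₀ * f ^ e) = f ^ (N + e) * d ^ M₀ by ring, add_sub_cancel_left]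
        rw [← h2]
        exact sub_mem (Submodule.smul_mem _ _ hM₀) (Submodule.smul_mem _ _ hN)
      have h3 : f ^ e • (d ^ M₀ • y) ∈ H n := by
        refine he' f _ ?_ ⟨_, h1⟩
        rw [map_smul]
        exact Submodule.smul_mem _ _ (Submodule.subset_span (by simp))
      have h4 : d ^ M₀ • x₁ = d ^ M₀ • z - f ^ e • (d ^ M₀ • y) := by
        simp only [z, smul_add, smul_smul]
        rw [show d ^ M₀ * f ^ e = f ^ e * d ^ M₀ by ring, add_sub_cancel_right]
      rw [h4]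
      exact sub_mem hM₀ h3
    · intro heq'
      have h1 : f ∈ C n z := by rw [heq', heq]; exact hf
      obtain ⟨N, hN⟩ := ((hC _ _ _).1 h1).2
      obtain ⟨N', hN'⟩ := hf'
      apply hne'
      refine ⟨N' + (N + e), ?_⟩
      have h2 : f ^ (N' + (N + e)) • y = f ^ N' • (f ^ N • z) - f ^ N • (f ^ N' • x₁) := by
        simp only [z, smul_add, smul_smul]
        rw [show f ^ N * f ^ N' = f ^ N' * f ^ N by ring,
          show f ^ N' * (f ^ N * f ^ e) = f ^ (N' + (N + e)) by ring, add_sub_cancel_left]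
      rw [h2]
      exact sub_mem (Submodule.smul_mem _ _ hN) (Submodule.smul_mem _ _ hN')
  have h5 : Module.finrank k (C n z) < Module.finrank k (C n x₁) := by
    have := hfin n x₁
    exact Submodule.finrank_lt_finrank_of_lt hlt
  rw [heq, hd] at h5
  exact absurd (Nat.sInf_le ⟨n, z, hz, rfl⟩ : sInf T ≤ _) (not_le.2 h5)

omit [IsNoetherianRing A] [IsScalarTower k A M] in
/-- Baire type step: bounded denominators and numerators. -/
theorem exists_bounded (a : ℕ → A) (ha : Submodule.span k (Set.range a) = ⊤) (μ : ℕ → M)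
    (hμ : Submodule.span k (Set.range μ) = ⊤) (H : ℕ → Submodule A M) (hH : Antitone H)
    (p : Ideal A)
    (hE : ∀ s : ℕ → M, (∀ n, s (n + 1) - s n ∈ H n) →
      ∃ f : A, f ∉ p ∧ ∃ g : M, ∀ n, ∃ N : ℕ, f ^ N • (f • s n - g) ∈ H n) :
    ∃ (j n₀ : ℕ) (s₀ : M), ∀ x ∈ H n₀, ∀ n, ∃ f ∈ Submodule.span k (a '' Set.Iio j), f ∉ p ∧
      ∃ g ∈ Submodule.span k (μ '' Set.Iio j), ∃ N : ℕ, f ^ N • (f • (s₀ + x) - g) ∈ H n := by
  by_contra hcon
  push Not at hcon
  choose X hX n' hn' using hcon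
  let st : ℕ → ℕ × M := fun j ↦ Nat.rec (0, 0)
    (fun j r ↦ (max (r.1 + 1) (n' j r.1 r.2), r.2 + X j r.1 r.2)) j
  have hst : ∀ j, st (j + 1) = (max ((st j).1 + 1) (n' j (st j).1 (st j).2),
      (st j).2 + X j (st j).1 (st j).2) := fun j ↦ rfl
  have hn1 : ∀ j, (st j).1 < (st (j + 1)).1 := fun j ↦ by
    rw [hst]; exact lt_of_lt_of_le (Nat.lt_succ_self _) (le_max_left _ _)
  have hn2 : ∀ j, j ≤ (st j).1 := fun j ↦ by
    induction j with
    | zero => exact Nat.zero_le _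
    | succ j ih => exact lt_of_le_of_lt ih (hn1 j)
  have hmono : Monotone fun j ↦ (st j).1 := monotone_nat_of_le_succ fun j ↦ (hn1 j).le
  have hstep : ∀ j, (st (j + 1)).2 - (st j).2 ∈ H (st j).1 := fun j ↦ by
    rw [hst, add_sub_cancel_left]; exact hX j _ _
  have hdiff : ∀ j i, j ≤ i → (st i).2 - (st j).2 ∈ H (st j).1 := by
    intro j i hji
    induction i, hji using Nat.le_induction with
    | base => rw [sub_self]; exact zero_mem _
    | succ i hji ih =>
      rw [← sub_add_sub_cancel (st (i + 1)).2 (st i).2 (st j).2]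
      exact add_mem (hH (hmono hji) (hstep i)) ih
  obtain ⟨f, hfp, g, hfg⟩ := hE (fun n ↦ (st n).2) fun n ↦ hH (hn2 n) (hstep n)
  obtain ⟨j₁, hj₁⟩ := mem_span_image_Iio a ha f
  obtain ⟨j₂, hj₂⟩ := mem_span_image_Iio μ hμ g
  let j := max j₁ j₂
  let n := (st (j + 1)).1
  obtain ⟨N, hN⟩ := hfg n
  refine hn' j (st j).1 (st j).2 f (hj₁ j (le_max_left _ _)) hfp g (hj₂ j (le_max_right _ _)) N ?_
  have h1 : n' j (st j).1 (st j).2 ≤ n := by
    change _ ≤ (st (j + 1)).1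
    rw [hst]; exact le_max_right _ _
  refine hH h1 ?_
  have h2 : (st j).2 + X j (st j).1 (st j).2 = (st (j + 1)).2 := by rw [hst]
  rw [h2]
  have h3 : f ^ N • (f • (st (j + 1)).2 - g) =
      f ^ N • (f • (st n).2 - g) - f ^ N • f • ((st n).2 - (st (j + 1)).2) := by
    rw [← smul_sub, smul_sub f (st n).2]
    congr 1
    abel
  rw [h3]
  exact sub_mem hN (Submodule.smul_mem _ _ (Submodule.smul_mem _ _
    (hdiff (j + 1) n (hn2 (j + 1)))))

/-- The core statement. -/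
theorem core (hA : ∃ a : ℕ → A, Submodule.span k (Set.range a) = ⊤)
    (hM : ∃ μ : ℕ → M, Submodule.span k (Set.range μ) = ⊤) (H : ℕ → Submodule A M)
    (hH : Antitone H) (p : Ideal A) [hp : p.IsPrime]
    (hE : ∀ s : ℕ → M, (∀ n, s (n + 1) - s n ∈ H n) →
      ∃ f : A, f ∉ p ∧ ∃ g : M, ∀ n, ∃ N : ℕ, f ^ N • (f • s n - g) ∈ H n) :
    ∃ f : A, f ∉ p ∧ ∃ n, ∀ m, ∀ x ∈ H n, ∃ N : ℕ, f ^ N • x ∈ H m := by
  obtain ⟨a, ha⟩ := hA
  obtain ⟨μ, hμ⟩ := hM
  obtain ⟨j, n₀, s₀, hb⟩ := exists_bounded a ha μ hμ H hH p hE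
  let A₁ := Submodule.span k (a '' Set.Iio j)
  let M₁ := Submodule.span k (μ '' Set.Iio j)
  have hA₁ : A₁.FG := ⟨((Set.finite_Iio j).image a).toFinset, by simp [A₁]⟩
  have hM₁ : M₁.FG := ⟨((Set.finite_Iio j).image μ).toFinset, by simp [M₁]⟩
  let A' : Submodule k A := A₁ * A₁
  let B : A →ₗ[k] M →ₗ[k] M := (Algebra.lsmul k k M).toLinearMap
  let M' : Submodule k M := Submodule.map₂ B A₁ M₁
  have hA' : A'.FG := hA₁.mul hA₁
  have hM' : M'.FG := hA₁.map₂ B hM₁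
  -- differences
  have hdiff : ∀ x ∈ H n₀, ∀ n, ∃ f ∈ A', f ∉ p ∧ ∃ y ∈ M', ∃ N : ℕ, f ^ N • (f • x - y) ∈ H n := by
    intro x hx n
    obtain ⟨f₁, hf₁, hf₁p, g₁, hg₁, N₁, h₁⟩ := hb x hx n
    obtain ⟨f₀, hf₀, hf₀p, g₀, hg₀, N₀, h₀⟩ := hb 0 (zero_mem _) n
    refine ⟨f₁ * f₀, Submodule.mul_mem_mul hf₁ hf₀, fun h ↦ ?_, f₀ • g₁ - f₁ • g₀,
      sub_mem (Submodule.apply_mem_map₂ B hf₀ hg₁) (Submodule.apply_mem_map₂ B hf₁ hg₀), N₁ + N₀, ?_⟩
    · rcases hp.mem_or_mem h with h | h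
      · exact hf₁p h
      · exact hf₀p h
    · have h2 : (f₁ * f₀) ^ (N₁ + N₀) • ((f₁ * f₀) • x - (f₀ • g₁ - f₁ • g₀)) =
          (f₁ ^ N₀ * f₀ ^ (N₁ + N₀) * f₀) • (f₁ ^ N₁ • (f₁ • (s₀ + x) - g₁)) -
          (f₁ ^ (N₁ + N₀) * f₀ ^ N₁ * f₁) • (f₀ ^ N₀ • (f₀ • (s₀ + 0) - g₀)) := by
        simp only [add_zero, smul_sub, smul_add, smul_smul]
        have e1 : f₁ ^ N₀ * f₀ ^ (N₁ + N₀) * f₀ * (f₁ ^ N₁ * f₁) =
          f₁ ^ (N₁ + N₀) * f₀ ^ N₁ * f₁ * (f₀ ^ N₀ * f₀) := by ring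
        have e2 : (f₁ * f₀) ^ (N₁ + N₀) * (f₁ * f₀) =
          f₁ ^ N₀ * f₀ ^ (N₁ + N₀) * f₀ * (f₁ ^ N₁ * f₁) := by ring
        have e3 : (f₁ * f₀) ^ (N₁ + N₀) * f₀ = f₁ ^ N₀ * f₀ ^ (N₁ + N₀) * f₀ * f₁ ^ N₁ := by ring
        have e4 : (f₁ * f₀) ^ (N₁ + N₀) * f₁ = f₁ ^ (N₁ + N₀) * f₀ ^ N₁ * f₁ * f₀ ^ N₀ := by ring
        rw [e2, e3, e4, ← e1]
        abel
      rw [h2]
      exact sub_mem (Submodule.smul_mem _ _ h₁) (Submodule.smul_mem _ _ h₀)
  obtain ⟨m₀, hm₀⟩ := stab_pairs A' hA' M' hM' H hH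
  let m₁ := max m₀ n₀
  have key : ∀ x ∈ H m₁, ∀ n, ∃ f ∈ A', f ∉ p ∧ ∃ N : ℕ, f ^ N • x ∈ H n := by
    intro x hx n
    obtain ⟨f, hf, hfp, y, hy, N, hN⟩ := hdiff x (hH (le_max_right _ _) hx) (max n m₀)
    have h1 : f ^ N • y ∈ H m₀ := by
      have : f ^ N • y = f ^ N • (f • x) - f ^ N • (f • x - y) := by
        rw [← smul_sub, sub_sub_cancel]
      rw [this]
      exact sub_mem (Submodule.smul_mem _ _ (Submodule.smul_mem _ _ (hH (le_max_left _ _) hx)))
        (hH (le_max_right _ _) hN)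
    obtain ⟨N', hN'⟩ := hm₀ (max n m₀) (le_max_right _ _) f hf y hy ⟨N, h1⟩
    refine ⟨f, hf, hfp, N' + N + 1, hH (le_max_left _ _ : n ≤ max n m₀) ?_⟩
    have h2 : f ^ (N' + N + 1) • x = f ^ N' • (f ^ N • (f • x - y)) + f ^ N • (f ^ N' • y) := by
      simp only [smul_sub, smul_smul]
      rw [show f ^ N' * (f ^ N * f) = f ^ (N' + N + 1) by ring,
        show f ^ N * f ^ N' = f ^ N' * f ^ N by ring, sub_add_cancel]
    rw [h2]
    exact add_mem (Submodule.smul_mem _ _ hN) (Submodule.smul_mem _ _ hN')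
  obtain ⟨f, hfp, hf⟩ := exists_uniform A' hA' H hH p m₁ key
  exact ⟨f, hfp, m₁, hf⟩

end Core

/-- A finitely generated algebra over a field has countable dimension. -/
theorem exists_span_of_finiteType (k : Type u) [Field k] (A : Type v) [CommRing A] [Algebra k A]
    [h : Algebra.FiniteType k A] : ∃ a : ℕ → A, Submodule.span k (Set.range a) = ⊤ := by
  obtain ⟨n, φ, hφ⟩ := Algebra.FiniteType.iff_quotient_mvPolynomial''.1 h
  obtain ⟨e, he⟩ := exists_surjective_nat (Fin n →₀ ℕ)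
  refine ⟨fun i ↦ φ (MvPolynomial.basisMonomials (Fin n) k (e i)), ?_⟩
  have h1 : Set.range (fun i ↦ φ (MvPolynomial.basisMonomials (Fin n) k (e i))) =
      φ '' Set.range (MvPolynomial.basisMonomials (Fin n) k) := by
    rw [← Set.range_comp]
    exact he.range_comp (φ ∘ MvPolynomial.basisMonomials (Fin n) k)
  rw [h1]
  have h2 := Submodule.map_span φ.toLinearMap (Set.range (MvPolynomial.basisMonomials (Fin n) k))
  rw [Module.Basis.span_eq, Submodule.map_top, LinearMap.range_eq_top.2 hφ] at h2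
  exact h2.symm

/-- Countable generation over an algebra of countable dimension. -/
theorem exists_span_restrict {k : Type u} [Field k] {A : Type v} [CommRing A] [Algebra k A]
    (hA : ∃ a : ℕ → A, Submodule.span k (Set.range a) = ⊤) {N : Type w} [AddCommGroup N]
    [Module k N] [Module A N] [IsScalarTower k A N]
    (hN : ∃ μ : ℕ → N, Submodule.span A (Set.range μ) = ⊤) :
    ∃ μ : ℕ → N, Submodule.span k (Set.range μ) = ⊤ := by
  obtain ⟨a, ha⟩ := hA
  obtain ⟨μ, hμ⟩ := hN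
  refine ⟨fun i ↦ a i.unpair.1 • μ i.unpair.2, ?_⟩
  have h1 : Set.range (fun i : ℕ ↦ a i.unpair.1 • μ i.unpair.2) =
      Set.range a • Set.range μ := by
    ext x
    constructor
    · rintro ⟨i, rfl⟩
      exact Set.smul_mem_smul ⟨_, rfl⟩ ⟨_, rfl⟩
    · rintro ⟨_, ⟨i, rfl⟩, _, ⟨j, rfl⟩, rfl⟩
      exact ⟨Nat.pair i j, by simp⟩
  rw [h1, Submodule.span_smul_of_span_eq_top ha, hμ, Submodule.restrictScalars_top]

/-- The core statement for a tower of modules `L n` and surjective maps from `N`. -/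
theorem core_tower {k : Type u} [Field k] {A : Type v} [CommRing A] [Algebra k A]
    [Algebra.FiniteType k A] {N : Type w} [AddCommGroup N] [Module A N]
    (hN : ∃ μ : ℕ → N, Submodule.span A (Set.range μ) = ⊤)
    {L : ℕ → Type*} [∀ n, AddCommGroup (L n)] [∀ n, Module A (L n)]
    (t : ∀ n, L (n + 1) → L n) (ht : ∀ n, t n 0 = 0) (π : ∀ n, N →ₗ[A] L n)
    (hπ : ∀ n y, t n (π (n + 1) y) = π n y)
    (p : Ideal A) [p.IsPrime]
    (hE : ∀ s : ∀ n, L n, (∀ n, t n (s (n + 1)) = s n) → (∀ n, s n ∈ LinearMap.range (π n)) →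
      ∃ f : A, f ∉ p ∧ ∃ (g : N) (r : ℕ), ∀ n, ∃ e : ℕ, f ^ e • (f ^ r • s n - π n g) = 0) :
    ∃ f : A, f ∉ p ∧ ∃ n, ∀ m x, π n x = 0 → ∃ e : ℕ, f ^ e • π m x = 0 := by
  let _ : Module k N := Module.compHom N (algebraMap k A)
  have : IsScalarTower k A N := ⟨fun c a x ↦ by
    rw [Algebra.smul_def, mul_smul]; rfl⟩
  have : IsNoetherianRing A := Algebra.FiniteType.isNoetherianRing k A
  have hA := exists_span_of_finiteType k A
  have hker : ∀ n x, π (n + 1) x = 0 → π n x = 0 := fun n x hx ↦ by rw [← hπ, hx, ht]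
  have hanti : Antitone fun n ↦ LinearMap.ker (π n) := antitone_nat_of_succ_le fun n x hx ↦ by
    rw [LinearMap.mem_ker] at hx ⊢
    exact hker n x hx
  obtain ⟨f, hf, n, h⟩ := core (k := k) hA (exists_span_restrict hA hN)
    (fun n ↦ LinearMap.ker (π n)) hanti p (fun s hs ↦ by
      obtain ⟨f, hf, g, r, hg⟩ := hE (fun n ↦ π n (s n)) (fun n ↦ by
        rw [hπ, ← sub_eq_zero, ← map_sub]
        exact hs n) (fun n ↦ ⟨_, rfl⟩)
      refine ⟨f ^ (r + 1), fun h ↦ hf (Ideal.IsPrime.mem_of_pow_mem inferInstance _ h), f • g,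
        fun n ↦ ?_⟩
      obtain ⟨e, he⟩ := hg n
      refine ⟨e, ?_⟩
      rw [LinearMap.mem_ker, map_smul, map_sub, map_smul, map_smul]
      have h1 : (f ^ (r + 1)) ^ e • (f ^ (r + 1) • π n (s n) - f • π n g) =
          f ^ (r * e + 1) • (f ^ e • (f ^ r • π n (s n) - π n g)) := by
        simp only [smul_sub, smul_smul]
        congr 2
        · ring
        · ring
      rw [h1, he, smul_zero])
  refine ⟨f, hf, n, fun m x hx ↦ ?_⟩
  obtain ⟨e, he⟩ := h m x hx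
  exact ⟨e, by rw [← map_smul]; exact he⟩


end K415.TowerAlg
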