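import Groth.Agent.Coh.K415.TowerSheaf

/-!
# Limits of towers: eventually constant towers, towers of images
-/

set_option autoImplicit false
universe u v
open CategoryTheory CategoryTheory.Limits AlgebraicGeometry Opposite TopologicalSpace

namespace K415.TowerSheaf

open Groth.Agent.Ega1.SubSheaf Groth.Agent.Ega1.LocMod Groth.Agent.FormalB.SysSect Groth.Agent

variable {X : Scheme.{u}}

theorem isIso_of_bijective_app {M N : X.Modules} (φ : M ⟶ N)
    (h : ∀ U : X.Opens, Function.Bijective (φ.app U)) : IsIso φ := by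
  rw [Scheme.Modules.Hom.isIso_iff_isIso_app]
  intro U
  rw [ConcreteCategory.isIso_iff_bijective]
  exact h U

/-- The limit of an eventually constant tower. -/
theorem isIso_π (Q : ℕᵒᵖ ⥤ X.Modules) (N : ℕ)
    (h : ∀ (n m : ℕ) (_ : N ≤ n) (h : n ≤ m), IsIso (trL Q h)) : IsIso (limit.π Q (op N)) := by
  have hπ : ∀ (n m : ℕ) (h : n ≤ m), limit.π Q (op m) ≫ trL Q h = limit.π Q (op n) :=
    fun n m h ↦ limit.w Q (homOfLE h).op
  refine isIso_of_bijective_app _ fun U ↦ ⟨?_, ?_⟩
  · intro y y' hy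
    refine limit_section_ext Q U y y' fun n ↦ ?_
    rcases le_total n N with hn | hn
    · have h1 : ∀ y, (limit.π Q (op n)).app U y = (trL Q hn).app U ((limit.π Q (op N)).app U y) :=
        fun y ↦ by rw [← hπ n N hn]; rfl
      rw [h1, h1, hy]
    · have := h N n le_rfl hn
      have h2 : Function.Injective ((trL Q hn).app U) := PerfB.ModExact.app_injective_of_mono _ U
      apply h2
      have h1 : ∀ y, (limit.π Q (op N)).app U y = (trL Q hn).app U ((limit.π Q (op n)).app U y) :=
        fun y ↦ by rw [← hπ N n hn]; rfl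
      rw [← h1, ← h1, hy]
  · intro z
    have hi : ∀ n, IsIso (trL Q (le_max_right n N)) := fun n ↦ h N _ le_rfl _
    let x : ∀ n : ℕ, Q.obj (op N) ⟶ Q.obj (op n) := fun n ↦
      inv (trL Q (le_max_right n N)) ≫ trL Q (le_max_left n N)
    have hx : ∀ n, x (n + 1) ≫ tr Q n = x n := by
      intro n
      have h3 : max n N ≤ max (n + 1) N := max_le_max (Nat.le_succ n) le_rfl
      have h4 : trL Q h3 ≫ trL Q (le_max_right n N) = trL Q (le_max_right (n + 1) N) :=
        trL_comp Q _ _
      have h5 : trL Q (le_max_left (n + 1) N) ≫ tr Q n = trL Q h3 ≫ trL Q (le_max_left n N) :=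
        (trL_comp Q (Nat.le_succ n) (le_max_left (n + 1) N)).trans
          (trL_comp Q (le_max_left n N) h3).symm
      simp only [x, Category.assoc]
      rw [h5, ← cancel_epi (trL Q (le_max_right (n + 1) N)), IsIso.hom_inv_id_assoc, ← h4,
        Category.assoc, IsIso.hom_inv_id_assoc]
    obtain ⟨y, hy⟩ := exists_limit_section Q U (fun n ↦ (x n).app U z)
      (fun n ↦ congr(($(hx n)).app U z))
    refine ⟨y, ?_⟩
    rw [hy N]
    have h6 : x N = 𝟙 _ := by
      simp only [x]
      rw [IsIso.inv_comp_eq, Category.comp_id]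
    change (x N).app U z = z
    rw [h6]
    rfl

theorem isQCoh_of_epi_mono {G Q F : X.Modules} (p : G ⟶ Q) [Epi p] (i : Q ⟶ F) [Mono i]
    (hG : Coh.IsQCoh G) (hF : Coh.IsQCoh F) : Coh.IsQCoh Q := by
  have hk : Coh.IsQCoh (kernel (p ≫ i)) := PerfA.QCohSerre.isQCoh_kernel _ hG hF
  have hk' : Coh.IsQCoh (kernel p) := PerfA.QCohSerre.isQCoh_of_iso (kernelCompMono p i) hk
  have e : cokernel (kernel.ι p) ≅ Q :=
    (cokernelIsCokernel (kernel.ι p)).coconePointUniqueUpToIso
      (Abelian.epiIsCokernelOfKernel (KernelFork.ofι (kernel.ι p) (kernel.condition p)) (kernelIsKernel p))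
  exact PerfA.QCohSerre.isQCoh_of_iso e (PerfA.QCohSerre.isQCoh_cokernel _ hk' hG)

/-- If `G` is quasi-coherent with countably generated sections over affine opens and `G ⟶ lim F` is an
epimorphism then the images of `G` in the `F n` form an eventually constant tower with limit `lim F`. -/
theorem exists_stable_images (k : Type u) [Field k] [X.Over (Spec (CommRingCat.of k))]
    [LocallyOfFiniteType (X ↘ Spec (CommRingCat.of k))] [CompactSpace X]
    (F : ℕᵒᵖ ⥤ X.Modules) (hF : ∀ n : ℕ, Coh.IsQCoh (F.obj (op n)))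
    (G : X.Modules) (hG : Coh.IsQCoh G) (hGc : ∀ U : X.Opens, IsAffineOpen U → CG G U)
    (φ : G ⟶ limit F) [Epi φ] :
    Coh.IsQCoh (limit F) ∧ ∃ N : ℕ, ∀ n, N ≤ n → Mono (limit.π F (op n)) := by
  let c : (Functor.const ℕᵒᵖ).obj G ⟶ F :=
    { app := fun n ↦ φ ≫ limit.π F n
      naturality := fun n m g ↦ by
        change 𝟙 G ≫ φ ≫ limit.π F m = (φ ≫ limit.π F n) ≫ F.map g
        rw [Category.id_comp, Category.assoc, limit.w] }
  let Q : ℕᵒᵖ ⥤ X.Modules := Abelian.image c
  let p : (Functor.const ℕᵒᵖ).obj G ⟶ Q := Abelian.factorThruImage c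
  let i : Q ⟶ F := Abelian.image.ι c
  have hpi : p ≫ i = c := Abelian.image.fac c
  have hp : ∀ n, Epi (p.app n) := fun n ↦ inferInstance
  have hi : ∀ n, Mono (i.app n) := fun n ↦ inferInstance
  have hQ : ∀ n : ℕ, Coh.IsQCoh (Q.obj (op n)) := fun n ↦ by
    have := hp (op n)
    have := hi (op n)
    exact isQCoh_of_epi_mono (p.app (op n)) (i.app (op n)) hG (hF n)
  let l : G ⟶ limit Q := limit.lift Q ⟨G, p⟩
  have hl : ∀ n : ℕᵒᵖ, l ≫ limit.π Q n = p.app n := fun n ↦ limit.lift_π _ n
  have hlφ : l ≫ limMap i = φ := by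
    apply limit.hom_ext
    intro n
    rw [Category.assoc, limMap_π, ← Category.assoc, hl]
    exact congr_app hpi n
  have hm : Mono (limMap i) := by
    have : Mono i := inferInstance
    exact (lim (J := ℕᵒᵖ) (C := X.Modules)).map_mono i
  have he : Epi (limMap i) := by
    have : Epi (l ≫ limMap i) := by rw [hlφ]; infer_instance
    exact epi_of_epi l _
  have hiso : IsIso (limMap i) := isIso_of_mono_of_epi _
  have hle : Epi l := by
    have : l = φ ≫ inv (limMap i) := by rw [← hlφ, Category.assoc, IsIso.hom_inv_id, Category.comp_id]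
    rw [this]
    infer_instance
  obtain ⟨N, hN⟩ := stab_cone k Q hQ G (fun n ↦ p.app (op n))
    (fun n ↦ (p.naturality (homOfLE (Nat.le_succ n)).op).symm.trans (Category.id_comp _)) hG hGc
    (fun n ↦ hp (op n)) l (fun n ↦ hl (op n)) hle
  have hQπ : ∀ n, N ≤ n → IsIso (limit.π Q (op n)) := fun n hn ↦
    isIso_π Q n fun a b ha hab ↦ hN a b (hn.trans ha) hab
  refine ⟨?_, N, fun n hn ↦ ?_⟩
  · have := hQπ N le_rfl
    exact PerfA.QCohSerre.isQCoh_of_iso ((asIso (limit.π Q (op N))).symm ≪≫ asIso (limMap i)) (hQ N)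
  · have h1 := hQπ n hn
    have h2 := hi (op n)
    have h3 : limit.π F (op n) = inv (limMap i) ≫ limit.π Q (op n) ≫ i.app (op n) := by
      rw [← cancel_epi (limMap i), limMap_π, IsIso.hom_inv_id_assoc]
    rw [h3]
    infer_instance

end K415.TowerSheaf
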