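import Groth.Agent.Coh.K415.TowerAlg
import Groth.Agent.Ega1.LocMod
import Groth.Agent.FormalB.SysSect
import Groth.Agent.FormalB.FormalLoc
import Groth.Agent.PerfA.QCohEpi
import Groth.Agent.PerfB.ModExact
import Groth.Agent.Sga2lef.H102.Lift

/-!
# Towers of quasi-coherent modules whose limit is locally generated by a countable module

`local_stab`: local stabilization from `K415.TowerAlg.core_tower`. `stab`: the global statement.
-/

set_option autoImplicit false
universe u v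
open CategoryTheory CategoryTheory.Limits AlgebraicGeometry Opposite TopologicalSpace

namespace K415.TowerSheaf

open Groth.Agent.Ega1.SubSheaf Groth.Agent.Ega1.LocMod Groth.Agent.FormalB.SysSect Groth.Agent

variable {X : Scheme.{u}}

/-- Transition maps of a tower. -/
abbrev tr (Q : ℕᵒᵖ ⥤ X.Modules) (n : ℕ) : Q.obj (op (n + 1)) ⟶ Q.obj (op n) :=
  Q.map (homOfLE (Nat.le_succ n)).op

/-- Longer transition maps of a tower. -/
abbrev trL (Q : ℕᵒᵖ ⥤ X.Modules) {n m : ℕ} (h : n ≤ m) : Q.obj (op m) ⟶ Q.obj (op n) :=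
  Q.map (homOfLE h).op

lemma trL_comp (Q : ℕᵒᵖ ⥤ X.Modules) {n m l : ℕ} (h : n ≤ m) (h' : m ≤ l) :
    trL Q h' ≫ trL Q h = trL Q (h.trans h') := by
  rw [← Q.map_comp]; rfl

lemma trL_refl (Q : ℕᵒᵖ ⥤ X.Modules) (n : ℕ) : trL Q (le_refl n) = 𝟙 _ := Q.map_id _

/-- The map on sections as a linear map. -/
noncomputable def appL {M N : X.Modules} (φ : M ⟶ N) (U : X.Opens) : Γ(M, U) →ₗ[Γ(X, U)] Γ(N, U) where
  toFun := φ.app U
  map_add' := map_add _
  map_smul' := app_smul' φ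

@[simp] lemma appL_apply {M N : X.Modules} (φ : M ⟶ N) (U : X.Opens) (s : Γ(M, U)) :
    appL φ U s = φ.app U s := rfl

/-- The prime of sections over `U` vanishing at `x`. -/
noncomputable def primeAt {U : X.Opens} (x : X) (hx : x ∈ U) : Ideal Γ(X, U) :=
  (IsLocalRing.maximalIdeal (X.presheaf.stalk x)).comap (X.presheaf.germ U x hx).hom

instance {U : X.Opens} (x : X) (hx : x ∈ U) : (primeAt x hx).IsPrime := Ideal.comap_isPrime _ _

lemma notMem_primeAt {U : X.Opens} (x : X) (hx : x ∈ U) (f : Γ(X, U)) :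
    f ∉ primeAt x hx ↔ x ∈ X.basicOpen f := by
  rw [primeAt, Ideal.mem_comap, IsLocalRing.mem_maximalIdeal, mem_nonunits_iff, not_not,
    Scheme.mem_basicOpen _ _ _ hx]

/-- The coordinate rings of affine opens of a scheme locally of finite type over a field. -/
lemma exists_finiteType (k : Type u) [Field k] (X : Scheme.{u}) [X.Over (Spec (CommRingCat.of k))]
    [LocallyOfFiniteType (X ↘ Spec (CommRingCat.of k))] {U : X.Opens} (hU : IsAffineOpen U) :
    ∃ φ : k →+* Γ(X, U), φ.FiniteType := by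
  let f := X ↘ Spec (CommRingCat.of k)
  have h1 : (f.appLE ⊤ U le_top).hom.FiniteType :=
    LocallyOfFiniteType.finiteType_appLE f (isAffineOpen_top _) hU _
  refine ⟨(f.appLE ⊤ U le_top).hom.comp (Scheme.ΓSpecIso (CommRingCat.of k)).inv.hom, h1.comp ?_⟩
  exact RingHom.FiniteType.of_surjective _
    (ConcreteCategory.bijective_of_isIso (Scheme.ΓSpecIso (CommRingCat.of k)).inv).2

/-- A section over an affine open which vanishes on a basic open is killed by a power. -/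
lemma exists_pow_smul_eq_zero {M : X.Modules} (hM : Coh.IsQCoh M) {U : X.Opens}
    (hU : IsAffineOpen U) (f : Γ(X, U)) (s : Γ(M, U)) (hs : res M (X.basicOpen_le f) s = 0) :
    ∃ n : ℕ, f ^ n • s = 0 :=
  have : M.IsQuasicoherent := hM
  (loc_of_isQuasicoherent M hU).inj f s hs

lemma res_basicOpen_eq_zero {M : X.Modules} {U : X.Opens} (f : Γ(X, U)) (s : Γ(M, U)) (n : ℕ)
    (hs : f ^ n • s = 0) : res M (X.basicOpen_le f) s = 0 := by
  have h1 := congr(res M (X.basicOpen_le f) $hs)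
  rw [res_smul, map_zero, map_pow] at h1
  have h2 : IsUnit (X.presheaf.map (homOfLE (X.basicOpen_le f)).op f) :=
    X.toRingedSpace.isUnit_res_basicOpen f
  exact (h2.pow n).smul_eq_zero.1 h1

theorem local_stab (k : Type u) [Field k] [X.Over (Spec (CommRingCat.of k))]
    [LocallyOfFiniteType (X ↘ Spec (CommRingCat.of k))] {U : X.Opens} (hU : IsAffineOpen U) (x : X)
    (hx : x ∈ U) (Q : ℕᵒᵖ ⥤ X.Modules) (hQ : ∀ n : ℕ, Coh.IsQCoh (Q.obj (op n)))
    {N : Type v} [AddCommGroup N] [Module Γ(X, U) N]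
    (hN : ∃ μ : ℕ → N, Submodule.span Γ(X, U) (Set.range μ) = ⊤)
    (π : ∀ n : ℕ, N →ₗ[Γ(X, U)] Γ(Q.obj (op n), U))
    (hπ : ∀ n y, (tr Q n).app U (π (n + 1) y) = π n y) (hs : ∀ n, Function.Surjective (π n))
    (hE : ∀ s : ∀ n : ℕ, Γ(Q.obj (op n), U), (∀ n, (tr Q n).app U (s (n + 1)) = s n) →
      ∃ f : Γ(X, U), x ∈ X.basicOpen f ∧ ∃ (g : N) (r : ℕ), ∀ n,
        res _ (X.basicOpen_le f) (π n g) = res _ (X.basicOpen_le f) (f ^ r • s n)) :
    ∃ f : Γ(X, U), x ∈ X.basicOpen f ∧ ∃ n₀ : ℕ, ∀ (n m : ℕ) (_ : n₀ ≤ n) (h : n ≤ m),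
      Function.Injective ((trL Q h).app (X.basicOpen f)) := by
  obtain ⟨φ, hφ⟩ := exists_finiteType k X hU
  let _ : Algebra k Γ(X, U) := φ.toAlgebra
  have : Algebra.FiniteType k Γ(X, U) := hφ
  obtain ⟨f, hf, n₀, h⟩ := TowerAlg.core_tower (k := k) (A := Γ(X, U)) hN
    (L := fun n ↦ Γ(Q.obj (op n), U)) (fun n ↦ (tr Q n).app U) (fun n ↦ map_zero _) π hπ
    (primeAt x hx) (fun s hs' _ ↦ by
      obtain ⟨f, hf, g, r, hg⟩ := hE s hs'
      refine ⟨f, (notMem_primeAt x hx f).2 hf, g, r, fun n ↦ ?_⟩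
      refine exists_pow_smul_eq_zero (hQ n) hU f _ ?_
      rw [map_sub, hg, sub_self])
  refine ⟨f, (notMem_primeAt x hx f).1 hf, n₀, fun n m hn hnm ↦ ?_⟩
  have hπ' : ∀ (n m : ℕ) (h : n ≤ m) y, (trL Q h).app U (π m y) = π n y := by
    intro n m h y
    induction m, h using Nat.le_induction with
    | base => rw [trL_refl]; rfl
    | succ m hm ih =>
      rw [← trL_comp Q hm (Nat.le_succ m)]
      change (trL Q hm).app U ((tr Q m).app U (π (m + 1) y)) = _
      rw [hπ, ih]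
  -- sections over `U`
  have key : ∀ y : Γ(Q.obj (op m), U), (trL Q hnm).app U y = 0 →
      res _ (X.basicOpen_le f) y = 0 := by
    intro y hy
    obtain ⟨z, rfl⟩ := hs m y
    rw [hπ'] at hy
    have h1 : π n₀ z = 0 := by rw [← hπ' n₀ n hn, hy, map_zero]
    obtain ⟨e, he⟩ := h m z h1
    exact res_basicOpen_eq_zero f _ e he
  have hu : IsUnit (resR (X.basicOpen_le f) f) := X.toRingedSpace.isUnit_res_basicOpen f
  refine (injective_iff_map_eq_zero ((trL Q hnm).app (X.basicOpen f)).hom).2 fun w hw ↦ ?_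
  have hqm : (Q.obj (op m)).IsQuasicoherent := hQ m
  obtain ⟨a, t, ht⟩ := (loc_of_isQuasicoherent (Q.obj (op m)) hU).surj f w
  have h2 : res _ (X.basicOpen_le f) ((trL Q hnm).app U t) = 0 := by
    rw [← app_res, ht, app_smul']
    exact (congrArg _ hw).trans (smul_zero _)
  obtain ⟨b, hb⟩ := exists_pow_smul_eq_zero (hQ n) hU f _ h2
  have h3 := key (f ^ b • t) (by rw [app_smul', hb])
  rw [res_smul, ht, map_pow, smul_smul] at h3
  exact ((hu.pow b).mul (hu.pow a)).smul_eq_zero.1 h3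

/-- Globalization of injectivity by quasi-compactness. -/
theorem stab_of_local [CompactSpace X] (Q : ℕᵒᵖ ⥤ X.Modules)
    (hQ : ∀ n : ℕ, Coh.IsQCoh (Q.obj (op n)))
    (hloc : ∀ x : X, ∃ V : X.Opens, IsAffineOpen V ∧ x ∈ V ∧ ∃ n₀ : ℕ,
      ∀ (n m : ℕ) (_ : n₀ ≤ n) (h : n ≤ m), Function.Injective ((trL Q h).app V)) :
    ∃ N : ℕ, ∀ (n m : ℕ) (_ : N ≤ n) (h : n ≤ m), Mono (trL Q h) := by
  classical
  choose V hV hx n₀ hn using hloc
  obtain ⟨t, ht⟩ := (isCompact_univ (X := X)).elim_finite_subcover (fun x ↦ (V x : Set X))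
    (fun x ↦ (V x).2) (fun x _ ↦ Set.mem_iUnion.2 ⟨x, hx x⟩)
  refine ⟨t.sup n₀, fun n m hN h ↦ ?_⟩
  refine FormalB.FormalLoc.mono_of_cover (hQ m) (hQ n) _ fun x ↦ ?_
  obtain ⟨y, hy⟩ := Set.mem_iUnion.1 (ht (Set.mem_univ x))
  obtain ⟨hyt, hxy⟩ := Set.mem_iUnion.1 hy
  exact ⟨V y, hxy, hV y, hn y n m ((Finset.le_sup hyt).trans hN) h⟩

/-- Countably generated sections over `U`. -/
def CG (M : X.Modules) (U : X.Opens) : Prop :=
  ∃ μ : ℕ → Γ(M, U), Submodule.span Γ(X, U) (Set.range μ) = ⊤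

lemma CG_of (M : X.Modules) (U : X.Opens)
    (h : ∃ s : Set (M.val.obj (op U)), s.Countable ∧
      Submodule.span (X.ringCatSheaf.obj.obj (op U)) s = ⊤) : CG M U := by
  obtain ⟨s, hs, hs'⟩ := h
  obtain ⟨μ, hμ⟩ : ∃ μ : ℕ → Γ(M, U), insert (0 : Γ(M, U)) (show Set Γ(M, U) from s) = Set.range μ :=
    Set.Countable.exists_eq_range (Set.Countable.insert _ hs) (Set.insert_nonempty _ _)
  refine ⟨μ, ?_⟩
  rw [← hμ, Submodule.span_insert_zero]
  exact hs'

lemma of_CG (M : X.Modules) (U : X.Opens) (h : CG M U) :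
    ∃ s : Set (M.val.obj (op U)), s.Countable ∧
      Submodule.span (X.ringCatSheaf.obj.obj (op U)) s = ⊤ := by
  obtain ⟨μ, hμ⟩ := h
  exact ⟨Set.range μ, Set.countable_range μ, hμ⟩

lemma CG.of_surjective {M N : X.Modules} (φ : M ⟶ N) {U : X.Opens}
    (hs : Function.Surjective (φ.app U)) (h : CG M U) : CG N U := by
  obtain ⟨μ, hμ⟩ := h
  refine ⟨fun i ↦ φ.app U (μ i), ?_⟩
  have h1 : Set.range (fun i ↦ φ.app U (μ i)) = appL φ U '' Set.range μ := by
    rw [← Set.range_comp]; rfl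
  rw [h1, ← Submodule.map_span, hμ, Submodule.map_top, LinearMap.range_eq_top]
  exact hs

/-- The main theorem for cones: stabilization of the quotients. -/
theorem stab_cone (k : Type u) [Field k] [X.Over (Spec (CommRingCat.of k))]
    [LocallyOfFiniteType (X ↘ Spec (CommRingCat.of k))] [CompactSpace X]
    (Q : ℕᵒᵖ ⥤ X.Modules) (hQ : ∀ n : ℕ, Coh.IsQCoh (Q.obj (op n))) (G : X.Modules)
    (π : ∀ n : ℕ, G ⟶ Q.obj (op n)) (hπ : ∀ n, π (n + 1) ≫ tr Q n = π n) (hG : Coh.IsQCoh G)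
    (hGc : ∀ U : X.Opens, IsAffineOpen U → CG G U)
    (hepi : ∀ n : ℕ, Epi (π n)) (l : G ⟶ limit Q) (hl : ∀ n, l ≫ limit.π Q (op n) = π n)
    (hlim : Epi l) :
    ∃ N : ℕ, ∀ (n m : ℕ) (_ : N ≤ n) (h : n ≤ m), IsIso (trL Q h) := by
  have hπ' : ∀ (n m : ℕ) (h : n ≤ m), π m ≫ trL Q h = π n := by
    intro n m h
    induction m, h using Nat.le_induction with
    | base => rw [trL_refl, Category.comp_id]
    | succ m hm ih => rw [← trL_comp Q hm (Nat.le_succ m), ← Category.assoc, hπ, ih]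
  obtain ⟨N, hN⟩ := stab_of_local Q hQ fun x ↦ by
    obtain ⟨_, ⟨U : X.Opens, hU, rfl⟩, hxU, -⟩ := X.isBasis_affineOpens.exists_subset_of_mem_open
      (Set.mem_univ x) isOpen_univ
    have hGq : G.IsQuasicoherent := hG
    obtain ⟨f, hxf, n₀, h⟩ := local_stab k hU x hxU Q hQ (N := Γ(G, U)) (hGc U hU)
      (fun n ↦ appL (π n) U) (fun n y ↦ congr(($(hπ n)).app U y))
      (fun n ↦ by
        have := hepi n
        exact FormalB.FormalLoc.app_surjective_of_epi (π n) hG (hQ n) hU)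
      (fun s hs ↦ by
        obtain ⟨σ, hσ⟩ := exists_limit_section Q U s hs
        obtain ⟨W, hW, hxW, z, hz⟩ := Sga2lef.H102.Lift.exists_lift_of_epi l U σ x hxU
        obtain ⟨f, hfW, hxf⟩ := hU.exists_basicOpen_le ⟨x, hxW⟩ hxU
        obtain ⟨r, g, hg⟩ := (loc_of_isQuasicoherent G hU).surj f (res G hfW z)
        have hzn : ∀ n, (π n).app W z = res _ hW (s n) := by
          intro n
          rw [← hl n, ← hσ n]
          have h1 : (l ≫ limit.π Q (op n)).app W z = (limit.π Q (op n)).app W (l.app W z) := rfl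
          rw [h1, hz]
          exact app_res (limit.π Q (op n)) hW σ
        refine ⟨f, hxf, g, r, fun n ↦ ?_⟩
        rw [appL_apply, ← app_res, hg, app_smul', app_res, hzn, res_res, res_smul, map_pow])
    exact ⟨X.basicOpen f, hU.basicOpen f, hxf, n₀, h⟩
  refine ⟨N, fun n m hn h ↦ ?_⟩
  have h1 := hN n m hn h
  have h2 : Epi (trL Q h) := by
    have : Epi (π m ≫ trL Q h) := by rw [hπ']; exact hepi n
    exact epi_of_epi (π m) _
  exact isIso_of_mono_of_epi _

end K415.TowerSheaf
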