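import Groth.Agent.Coh.K415.TowerLim
import Groth.Agent.Coh.K415.TowerML
import Groth.Prelude.Def_W4c2derhamsingLim

/-!
# The Mittag-Leffler condition and `lim¹` for towers of quasi-coherent modules
-/

set_option autoImplicit false
universe u v
open CategoryTheory CategoryTheory.Limits AlgebraicGeometry Opposite TopologicalSpace

namespace K415.TowerSheaf

open Groth.Agent.Ega1.SubSheaf Groth.Agent.Ega1.LocMod Groth.Agent.FormalB.SysSect Groth.Agent

variable {X : Scheme.{u}}

section Pi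

theorem preservesLimitsDiscreteNat_sectF (U : X.Opens) :
    PreservesLimitsOfShape (Discrete ℕ) (sectF U) :=
  have := preservesLimits_sectF U
  have := preservesSmallestLimits_of_preservesLimits (sectF U)
  inferInstance

variable (F : ℕ → X.Modules) (U : X.Opens)

theorem exists_pi_section (x : ∀ n, Γ(F n, U)) :
    ∃ y : Γ(∏ᶜ F, U), ∀ n, (Pi.π F n).app U y = x n := by
  have := preservesLimitsDiscreteNat_sectF U
  have h := isLimitOfPreserves (sectF U) (limit.isLimit (Discrete.functor F))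
  let s : (Discrete.functor F ⋙ sectF U).sections := ⟨fun n => x n.as, by
    rintro ⟨m⟩ ⟨n⟩ ⟨⟨g⟩⟩
    obtain rfl : m = n := g
    exact congr($((Discrete.functor F ⋙ sectF U).map_id (Discrete.mk m)) (x m))⟩
  refine ⟨(Types.isLimitEquivSections h).symm s, fun n => ?_⟩
  exact congr_fun (congr_arg Subtype.val ((Types.isLimitEquivSections h).apply_symm_apply s))
    (Discrete.mk n)

theorem pi_section_ext (y y' : Γ(∏ᶜ F, U)) (h : ∀ n, (Pi.π F n).app U y = (Pi.π F n).app U y') :
    y = y' := by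
  have := preservesLimitsDiscreteNat_sectF U
  have hl := isLimitOfPreserves (sectF U) (limit.isLimit (Discrete.functor F))
  apply (Types.isLimitEquivSections hl).injective
  apply Subtype.ext
  funext n
  exact h n.as

/-- Sections of the product. -/
noncomputable def piEquiv : Γ(∏ᶜ F, U) ≃ₗ[Γ(X, U)] (∀ n, Γ(F n, U)) :=
  LinearEquiv.ofBijective (LinearMap.pi fun n ↦ appL (Pi.π F n) U)
    ⟨fun y y' h ↦ pi_section_ext F U y y' fun n ↦ congr_fun h n, fun x ↦ by
      obtain ⟨y, hy⟩ := exists_pi_section F U x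
      exact ⟨y, funext hy⟩⟩

lemma piEquiv_apply (y : Γ(∏ᶜ F, U)) (n : ℕ) : piEquiv F U y n = (Pi.π F n).app U y := rfl

lemma π_app_piEquiv_symm (x : ∀ n, Γ(F n, U)) (n : ℕ) :
    (Pi.π F n).app U ((piEquiv F U).symm x) = x n := by
  rw [← piEquiv_apply, LinearEquiv.apply_symm_apply]

end Pi

section Exact

theorem exists_preimage_of_exact {S : ShortComplex X.Modules} (hS : S.Exact)
    (h1 : Coh.IsQCoh S.X₁) (h2 : Coh.IsQCoh S.X₂) (h3 : Coh.IsQCoh S.X₃) {U : X.Opens}
    (hU : IsAffineOpen U) (y : Γ(S.X₂, U)) (hy : S.g.app U y = 0) : ∃ z, S.f.app U z = y := by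
  have h4 : Epi (kernel.lift S.g S.f S.zero) := hS.epi_kernelLift
  obtain ⟨w, hw⟩ := PerfB.ModExact.exists_app_of_isLimit (kernel.ι S.g) S.g (kernel.condition _)
    (kernelIsKernel _) U y hy
  obtain ⟨z, hz⟩ := FormalB.FormalLoc.app_surjective_of_epi (kernel.lift S.g S.f S.zero) h1
    (PerfA.QCohSerre.isQCoh_kernel _ h2 h3) hU w
  refine ⟨z, ?_⟩
  rw [← hw, ← hz]
  have : kernel.lift S.g S.f S.zero ≫ kernel.ι S.g = S.f := kernel.lift_ι _ _ _
  exact congr(($this).app U z).symm

theorem range_app_imageSubobject {M N : X.Modules} (f : M ⟶ N) (hM : Coh.IsQCoh M)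
    (hN : Coh.IsQCoh N) {U : X.Opens} (hU : IsAffineOpen U) :
    Set.range (f.app U) = Set.range ((imageSubobject f).arrow.app U) := by
  have hI : Coh.IsQCoh (imageSubobject f : X.Modules) :=
    isQCoh_of_epi_mono (factorThruImageSubobject f) (imageSubobject f).arrow hM hN
  have h1 := FormalB.FormalLoc.app_surjective_of_epi (factorThruImageSubobject f) hM hI hU
  have h2 : ∀ z, f.app U z = (imageSubobject f).arrow.app U ((factorThruImageSubobject f).app U z) :=
    fun z ↦ congr(($(imageSubobject_arrow_comp f)).app U z).symm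
  ext y
  constructor
  · rintro ⟨z, rfl⟩
    exact ⟨_, (h2 z).symm⟩
  · rintro ⟨w, rfl⟩
    obtain ⟨z, rfl⟩ := h1 w
    exact ⟨z, h2 z⟩

end Exact

section Tower

variable (F : ℕᵒᵖ ⥤ X.Modules)

/-- Transition maps on sections, with junk value `0`. -/
noncomputable def secT (U : X.Opens) (n m : ℕ) : Γ(F.obj (op m), U) →+ Γ(F.obj (op n), U) :=
  if h : n ≤ m then ((trL F h).app U).hom else 0

lemma secT_apply (U : X.Opens) {n m : ℕ} (h : n ≤ m) (a : Γ(F.obj (op m), U)) :
    secT F U n m a = (trL F h).app U a := by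
  rw [secT, dif_pos h]

lemma secT_self (U : X.Opens) (n : ℕ) (a : Γ(F.obj (op n), U)) : secT F U n n a = a := by
  rw [secT_apply F U le_rfl, trL_refl]; rfl

lemma secT_comp (U : X.Opens) (n m l : ℕ) (h : n ≤ m) (h' : m ≤ l) (a : Γ(F.obj (op l), U)) :
    secT F U n m (secT F U m l a) = secT F U n l a := by
  rw [secT_apply F U h, secT_apply F U h', secT_apply F U (h.trans h'), ← trL_comp F h h']
  rfl

/-- The Mittag-Leffler condition. -/
def IsML : Prop := ∀ n : ℕ, ∃ (m : ℕ) (hm : n ≤ m), ∀ (m' : ℕ) (hm' : m ≤ m'),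
  imageSubobject (F.map (homOfLE (hm.trans hm')).op) = imageSubobject (F.map (homOfLE hm).op)

variable (hF : ∀ n : ℕ, Coh.IsQCoh (F.obj (op n)))

include hF in
theorem secT_ml (hML : IsML F) {U : X.Opens} (hU : IsAffineOpen U) (n : ℕ) :
    ∃ m, n ≤ m ∧ ∀ m', m ≤ m' → ∀ a : Γ(F.obj (op m), U), ∃ b : Γ(F.obj (op m'), U),
      secT F U n m' b = secT F U n m a := by
  obtain ⟨m, hm, h⟩ := hML n
  refine ⟨m, hm, fun m' hm' a ↦ ?_⟩
  have h1 := range_app_imageSubobject (trL F hm) (hF _) (hF _) hU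
  have h2 := range_app_imageSubobject (trL F (hm.trans hm')) (hF _) (hF _) hU
  have h3 : Set.range ((trL F hm).app U) = Set.range ((trL F (hm.trans hm')).app U) := by
    rw [h1, h2]
    have h4 := h m' hm'
    change imageSubobject (trL F (hm.trans hm')) = imageSubobject (trL F hm) at h4
    rw [h4]
  have h5 : secT F U n m a ∈ Set.range ((trL F hm).app U) := ⟨a, (secT_apply F U hm a).symm⟩
  rw [h3] at h5
  obtain ⟨b, hb⟩ := h5
  exact ⟨b, by rw [secT_apply F U (hm.trans hm'), hb]⟩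

lemma towerDiffSh_app (U : X.Opens) (y : Γ(∏ᶜ fun n : ℕ => F.obj (op n), U)) (n : ℕ) :
    (Pi.π (fun n : ℕ => F.obj (op n)) n).app U ((LimSh.towerDiffSh F).app U y) =
      (Pi.π (fun n : ℕ => F.obj (op n)) n).app U y -
        (tr F n).app U ((Pi.π (fun n : ℕ => F.obj (op n)) (n + 1)).app U y) := by
  have h1 : LimSh.towerDiffSh F ≫ Pi.π (fun n : ℕ => F.obj (op n)) n =
      Pi.π (fun n : ℕ => F.obj (op n)) n - Pi.π (fun n : ℕ => F.obj (op n)) (n + 1) ≫ tr F n := by
    rw [LimSh.towerDiffSh, Pi.lift_π]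
  have h2 := congr(($h1).app U y)
  rw [Scheme.Modules.Hom.sub_app] at h2
  exact h2

include hF in
theorem isZero_limOneSh_of_ml (hML : IsML F) : IsZero (LimSh.limOneSh F) := by
  have : Epi (LimSh.towerDiffSh F) := by
    refine epi_of_affine _ fun U hU y ↦ ?_
    obtain ⟨x, hx⟩ := TowerML.exists_solution (secT F U) (secT_self F U) (secT_comp F U)
      (secT_ml F hF hML hU) (fun n ↦ (Pi.π (fun n : ℕ => F.obj (op n)) n).app U y)
    obtain ⟨z, hz⟩ := exists_pi_section (fun n : ℕ => F.obj (op n)) U x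
    refine ⟨z, pi_section_ext _ U _ _ fun n ↦ ?_⟩
    rw [towerDiffSh_app, hz, hz, ← hx n, secT_apply F U (Nat.le_succ n)]
  exact isZero_cokernel_of_epi _

end Tower

end K415.TowerSheaf
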