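import Groth.Agent.Coh.K415.TowerTfae

/-!
# If `lim¹` of a tower of countably quasi-coherent modules is countably quasi-coherent, the tower is
Mittag-Leffler
-/

set_option autoImplicit false
universe u v w
open CategoryTheory CategoryTheory.Limits AlgebraicGeometry Opposite TopologicalSpace

namespace K415.TowerSheaf

open Groth.Agent.Ega1.SubSheaf Groth.Agent.Ega1.LocMod Groth.Agent.FormalB.SysSect Groth.Agent

section Algebra

/-- Countable generation of images in countably generated modules. -/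
theorem exists_countable_lifts {A : Type u} [CommRing A] [IsNoetherianRing A] {V : Type v}
    [AddCommGroup V] [Module A V] (hV : ∃ μ : ℕ → V, Submodule.span A (Set.range μ) = ⊤)
    {W : Type w} [AddCommGroup W] [Module A W] (κ : W →ₗ[A] V) :
    ∃ Y : ℕ → W, ∀ w, ∃ c : ℕ →₀ A, κ w = κ (Finsupp.linearCombination A Y c) := by
  classical
  obtain ⟨μ, hμ⟩ := hV
  have h1 : ∀ j : ℕ, ∃ s : Finset V, Submodule.span A (s : Set V) =
      LinearMap.range κ ⊓ Submodule.span A (μ '' Set.Iio j) := by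
    intro j
    have : IsNoetherian A (Submodule.span A (μ '' Set.Iio j)) :=
      isNoetherian_span_of_finite A ((Set.finite_Iio j).image μ)
    have h2 : (LinearMap.range κ ⊓ Submodule.span A (μ '' Set.Iio j)).FG := by
      have h3 : ((LinearMap.range κ).comap (Submodule.span A (μ '' Set.Iio j)).subtype).FG :=
        IsNoetherian.noetherian _
      have h4 := h3.map (Submodule.span A (μ '' Set.Iio j)).subtype
      rwa [Submodule.map_comap_subtype, inf_comm] at h4
    exact h2
  choose s hs using h1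
  have h2 : ∀ j, ∀ v ∈ s j, ∃ w, κ w = v := fun j v hv ↦ by
    have : v ∈ LinearMap.range κ ⊓ Submodule.span A (μ '' Set.Iio j) := by
      rw [← hs]; exact Submodule.subset_span hv
    exact this.1
  let S : Set V := ⋃ j, (s j : Set V)
  have hS : (insert 0 S).Countable := (Set.countable_iUnion fun j ↦ (s j).countable_toSet).insert 0
  obtain ⟨v, hv⟩ := hS.exists_eq_range (Set.insert_nonempty _ _)
  have h3 : ∀ i, ∃ w, κ w = v i := fun i ↦ by
    have : v i ∈ insert 0 S := by rw [hv]; exact ⟨i, rfl⟩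
    rcases this with h | h
    · exact ⟨0, by rw [h, map_zero]⟩
    · obtain ⟨j, hj⟩ := Set.mem_iUnion.1 h
      exact h2 j _ hj
  choose Y hY using h3
  refine ⟨Y, fun w ↦ ?_⟩
  have h4 : κ w ∈ Submodule.span A (Set.range v) := by
    have h5 : κ w ∈ Submodule.span A (Set.range μ) := by rw [hμ]; trivial
    have h6 : ∃ j, κ w ∈ Submodule.span A (μ '' Set.Iio j) := by
      refine Submodule.span_induction ?_ ?_ ?_ ?_ h5
      · rintro _ ⟨i, rfl⟩
        exact ⟨i + 1, Submodule.subset_span ⟨i, Nat.lt_succ_self i, rfl⟩⟩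
      · exact ⟨0, zero_mem _⟩
      · rintro x y _ _ ⟨i, hi⟩ ⟨j, hj⟩
        refine ⟨max i j, add_mem (Submodule.span_mono (Set.image_mono ?_) hi)
          (Submodule.span_mono (Set.image_mono ?_) hj)⟩
        · exact Set.Iio_subset_Iio (le_max_left _ _)
        · exact Set.Iio_subset_Iio (le_max_right _ _)
      · rintro c x _ ⟨i, hi⟩
        exact ⟨i, Submodule.smul_mem _ _ hi⟩
    obtain ⟨j, hj⟩ := h6
    have h7 : κ w ∈ Submodule.span A (s j : Set V) := by
      rw [hs]; exact ⟨⟨w, rfl⟩, hj⟩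
    refine Submodule.span_mono ?_ h7
    rw [← hv]
    exact (Set.subset_iUnion (fun j ↦ (s j : Set V)) j).trans (Set.subset_insert _ _)
  obtain ⟨c, hc⟩ := (Finsupp.mem_span_range_iff_exists_finsupp).1 h4
  refine ⟨c, ?_⟩
  rw [Finsupp.apply_linearCombination, ← hc, Finsupp.linearCombination_apply]
  exact Finsupp.sum_congr fun i _ ↦ by rw [Function.comp_apply, hY]

/-- Countable generation of `V × A^(ℕ)`. -/
theorem exists_span_prod {A : Type u} [CommRing A] {V : Type v} [AddCommGroup V] [Module A V]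
    (hV : ∃ μ : ℕ → V, Submodule.span A (Set.range μ) = ⊤) :
    ∃ μ : ℕ → V × (ℕ →₀ A), Submodule.span A (Set.range μ) = ⊤ := by
  obtain ⟨μ, hμ⟩ := hV
  have hS : (Set.range (fun i ↦ (μ i, (0 : ℕ →₀ A))) ∪
      Set.range (fun i ↦ ((0 : V), Finsupp.single i (1 : A)))).Countable :=
    (Set.countable_range _).union (Set.countable_range _)
  obtain ⟨ν, hν⟩ := hS.exists_eq_range ⟨_, Or.inl ⟨0, rfl⟩⟩
  refine ⟨ν, ?_⟩
  rw [← hν, Submodule.span_union, eq_top_iff]
  rintro ⟨v, c⟩ -
  have h1 : ((v, 0) : V × (ℕ →₀ A)) ∈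
      Submodule.span A (Set.range (fun i ↦ (μ i, (0 : ℕ →₀ A)))) := by
    have h2 : Set.range (fun i ↦ (μ i, (0 : ℕ →₀ A))) =
        LinearMap.inl A V (ℕ →₀ A) '' Set.range μ := by rw [← Set.range_comp]; rfl
    rw [h2, ← Submodule.map_span, hμ]
    exact ⟨v, trivial, rfl⟩
  have h3 : ((0, c) : V × (ℕ →₀ A)) ∈
      Submodule.span A (Set.range (fun i ↦ ((0 : V), Finsupp.single i (1 : A)))) := by
    have h2 : Set.range (fun i ↦ ((0 : V), Finsupp.single i (1 : A))) =
        LinearMap.inr A V (ℕ →₀ A) '' Set.range (fun i ↦ Finsupp.single i (1 : A)) := by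
      rw [← Set.range_comp]; rfl
    rw [h2, ← Submodule.map_span, ← Finsupp.coe_basisSingleOne, Module.Basis.span_eq]
    exact ⟨c, trivial, rfl⟩
  have h4 : ((v, c) : V × (ℕ →₀ A)) = (v, 0) + (0, c) := by simp
  rw [h4]
  exact Submodule.add_mem_sup h1 h3

end Algebra

variable {X : Scheme.{u}}

section Quot

variable (F : ℕᵒᵖ ⥤ X.Modules) (n : ℕ)

/-- The shift of the index category. -/
def sh : ℕᵒᵖ ⥤ ℕᵒᵖ := (Monotone.functor (f := fun m : ℕ ↦ n + m) fun _ _ h ↦ Nat.add_le_add_left h n).op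

/-- The maps `F (n + m) ⟶ F n`. -/
noncomputable def toConst : sh n ⋙ F ⟶ (Functor.const ℕᵒᵖ).obj (F.obj (op n)) where
  app m := F.map (homOfLE (Nat.le_add_right n m.unop)).op
  naturality _ m' g :=
    ((F.map_comp ((sh n).map g) (homOfLE (Nat.le_add_right n m'.unop)).op).symm.trans
      (congrArg F.map (Subsingleton.elim _ _))).trans (Category.comp_id _).symm

/-- The tower of the quotients of `F n` by the images of `F (n + m)`. -/
noncomputable def quotTower : ℕᵒᵖ ⥤ X.Modules := cokernel (toConst F n)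

/-- The projections. -/
noncomputable def toQuot (m : ℕ) : F.obj (op n) ⟶ (quotTower F n).obj (op m) :=
  (cokernel.π (toConst F n)).app (op m)

lemma toQuot_tr (m : ℕ) : toQuot F n (m + 1) ≫ tr (quotTower F n) m = toQuot F n m :=
  ((cokernel.π (toConst F n)).naturality (homOfLE (Nat.le_succ m)).op).symm.trans
    (Category.id_comp _)

lemma trL_toQuot (m : ℕ) : trL F (Nat.le_add_right n m) ≫ toQuot F n m = 0 := by
  have := congr_app (cokernel.condition (toConst F n)) (op m)
  exact this

instance (m : ℕ) : Epi (toQuot F n m) :=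
  inferInstanceAs (Epi ((cokernel.π (toConst F n)).app (op m)))

lemma exact_toQuot (m : ℕ) :
    (ShortComplex.mk (trL F (Nat.le_add_right n m)) (toQuot F n m) (trL_toQuot F n m)).Exact := by
  have h := ShortComplex.exact_cokernel (toConst F n)
  exact h.map ((evaluation ℕᵒᵖ X.Modules).obj (op m))

lemma isQCoh_quotTower (hF : ∀ n : ℕ, Coh.IsQCoh (F.obj (op n))) (m : ℕ) :
    Coh.IsQCoh ((quotTower F n).obj (op m)) := by
  have h := exact_toQuot F n m
  have : Epi (ShortComplex.mk (trL F (Nat.le_add_right n m)) (toQuot F n m)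
    (trL_toQuot F n m)).g := inferInstanceAs (Epi (toQuot F n m))
  have e := IsColimit.coconePointUniqueUpToIso (cokernelIsCokernel (trL F (Nat.le_add_right n m)))
    h.gIsCokernel
  exact PerfA.QCohSerre.isQCoh_of_iso e (PerfA.QCohSerre.isQCoh_cokernel _ (hF _) (hF _))

end Quot

section Main

variable (F : ℕᵒᵖ ⥤ X.Modules) (n : ℕ)

/-- The composite `∏ Γ(F j, U) → Γ(F n, U) → Γ(F n / F (n + m), U)` of partial sums. -/
noncomputable def sumT (U : X.Opens) (m : ℕ) :
    (∀ j : ℕ, Γ(F.obj (op j), U)) →ₗ[Γ(X, U)] Γ((quotTower F n).obj (op m), U) :=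
  appL (toQuot F n m) U ∘ₗ ∑ j ∈ Finset.range m,
    appL (trL F (Nat.le_add_right n j)) U ∘ₗ LinearMap.proj (n + j)

lemma sumT_apply (U : X.Opens) (m : ℕ) (y : ∀ j : ℕ, Γ(F.obj (op j), U)) :
    sumT F n U m y = (toQuot F n m).app U
      (∑ j ∈ Finset.range m, (trL F (Nat.le_add_right n j)).app U (y (n + j))) := by
  rw [sumT, LinearMap.comp_apply, LinearMap.sum_apply]
  rfl

lemma toQuot_trL_app (U : X.Opens) (m : ℕ) (a : Γ(F.obj (op (n + m)), U)) :
    (toQuot F n m).app U ((trL F (Nat.le_add_right n m)).app U a) = 0 :=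
  congr(($(trL_toQuot F n m)).app U a)

lemma tr_toQuot_app (U : X.Opens) (m : ℕ) (a : Γ(F.obj (op n), U)) :
    (tr (quotTower F n) m).app U ((toQuot F n (m + 1)).app U a) = (toQuot F n m).app U a :=
  congr(($(toQuot_tr F n m)).app U a)

lemma tr_sumT (U : X.Opens) (m : ℕ) (y : ∀ j : ℕ, Γ(F.obj (op j), U)) :
    (tr (quotTower F n) m).app U (sumT F n U (m + 1) y) = sumT F n U m y := by
  rw [sumT_apply, sumT_apply, tr_toQuot_app, Finset.sum_range_succ, map_add, toQuot_trL_app, add_zero]

variable (hF : ∀ n : ℕ, Coh.IsQCoh (F.obj (op n)))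

include hF in
lemma exists_sumT_eq {U : X.Opens} (hU : IsAffineOpen U)
    (s : ∀ m : ℕ, Γ((quotTower F n).obj (op m), U))
    (hs : ∀ m, (tr (quotTower F n) m).app U (s (m + 1)) = s m) :
    ∃ y : ∀ j : ℕ, Γ(F.obj (op j), U), ∀ m, sumT F n U m y = s m := by
  have h1 : ∀ m, ∃ σ : Γ(F.obj (op n), U), (toQuot F n m).app U σ = s m ∧ (m = 0 → σ = 0) := by
    intro m
    obtain ⟨σ, hσ⟩ := FormalB.FormalLoc.app_surjective_of_epi (toQuot F n m) (hF n)
      (isQCoh_quotTower F n hF m) hU (s m)
    rcases Nat.eq_zero_or_pos m with rfl | hm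
    · refine ⟨0, ?_, fun _ ↦ rfl⟩
      rw [← hσ, map_zero]
      have h2 := toQuot_trL_app F n U 0 σ
      have h3 : (trL F (Nat.le_add_right n 0)).app U σ = σ := by
        change (F.map (𝟙 _)).app U σ = σ
        rw [F.map_id]; rfl
      rw [h3] at h2
      exact h2.symm
    · exact ⟨σ, hσ, fun h ↦ absurd h hm.ne'⟩
  choose σ hσ hσ0 using h1
  have h2 : ∀ m, ∃ z : Γ(F.obj (op (n + m)), U),
      (trL F (Nat.le_add_right n m)).app U z = σ (m + 1) - σ m := by
    intro m
    refine exists_preimage_of_exact (exact_toQuot F n m) (hF _) (hF _) (isQCoh_quotTower F n hF m)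
      hU _ ?_
    change (toQuot F n m).app U (σ (m + 1) - σ m) = 0
    rw [map_sub, hσ m, ← tr_toQuot_app, hσ (m + 1), hs, sub_self]
  have h3 : ∀ j, ∃ a : Γ(F.obj (op j), U), n ≤ j → secT F U n j a = σ (j - n + 1) - σ (j - n) := by
    intro j
    by_cases h : n ≤ j
    · obtain ⟨m, rfl⟩ := Nat.exists_eq_add_of_le h
      obtain ⟨z, hz⟩ := h2 m
      refine ⟨z, fun _ ↦ ?_⟩
      rw [secT_apply F U (Nat.le_add_right n m), hz, Nat.add_sub_cancel_left]
    · exact ⟨0, fun h' ↦ absurd h' h⟩
  choose y hy using h3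
  refine ⟨y, fun m ↦ ?_⟩
  rw [sumT_apply]
  have h4 : ∑ j ∈ Finset.range m, (trL F (Nat.le_add_right n j)).app U (y (n + j)) = σ m := by
    have h5 : ∀ j, (trL F (Nat.le_add_right n j)).app U (y (n + j)) = σ (j + 1) - σ j := by
      intro j
      have := hy (n + j) (Nat.le_add_right n j)
      rwa [secT_apply F U (Nat.le_add_right n j), Nat.add_sub_cancel_left] at this
    simp only [h5]
    rw [Finset.sum_range_sub, hσ0 0 rfl, sub_zero]
  rw [h4, hσ]

/-- The class of a family of sections in `lim¹`. -/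
noncomputable def classMap (U : X.Opens) :
    (∀ j : ℕ, Γ(F.obj (op j), U)) →ₗ[Γ(X, U)] Γ(LimSh.limOneSh F, U) :=
  appL (cokernel.π (LimSh.towerDiffSh F)) U ∘ₗ
    (piEquiv (fun j : ℕ ↦ F.obj (op j)) U).symm.toLinearMap

/-- Locally, a family of class zero has `sumT` coming from `F n`. -/
lemma exists_local_of_class_eq_zero (U : X.Opens) (y : ∀ j : ℕ, Γ(F.obj (op j), U))
    (hy : classMap F U y = 0) (x : X) (hx : x ∈ U) :
    ∃ (W : X.Opens) (hW : W ≤ U) (_ : x ∈ W) (w : Γ(F.obj (op n), W)), ∀ m,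
      res _ hW (sumT F n U m y) = (toQuot F n m).app W w := by
  let P := fun j : ℕ ↦ F.obj (op j)
  let yh := (piEquiv P U).symm y
  obtain ⟨W, hW, hxW, z, hz⟩ := Sga2.TwIt.exists_lift_of_exact
    (ShortComplex.mk (LimSh.towerDiffSh F) (cokernel.π (LimSh.towerDiffSh F))
      (cokernel.condition _)) (ShortComplex.exact_cokernel _) U yh hy x hx
  refine ⟨W, hW, hxW, (Pi.π P n).app W z, fun m ↦ ?_⟩
  have h1 : ∀ j, res (F.obj (op j)) hW (y j) = (Pi.π P j).app W z -
      (tr F j).app W ((Pi.π P (j + 1)).app W z) := by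
    intro j
    rw [← towerDiffSh_app]
    have h2 : (LimSh.towerDiffSh F).app W z = res _ hW yh := hz
    rw [h2, app_res]
    exact congrArg _ (π_app_piEquiv_symm P U y j).symm
  rw [sumT_apply, ← app_res, map_sum]
  have h3 : ∀ j, res (F.obj (op n)) hW ((trL F (Nat.le_add_right n j)).app U (y (n + j))) =
      (trL F (Nat.le_add_right n j)).app W ((Pi.π P (n + j)).app W z) -
      (trL F (Nat.le_add_right n (j + 1))).app W ((Pi.π P (n + (j + 1))).app W z) := by
    intro j
    rw [← app_res, h1 (n + j), map_sub]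
    congr 1
    exact congr(($(trL_comp F (Nat.le_add_right n j) (Nat.le_succ (n + j)))).app W
      ((Pi.π P (n + j + 1)).app W z))
  simp only [h3]
  rw [Finset.sum_range_sub', map_sub, toQuot_trL_app, sub_zero]
  congr 1
  change (F.map (𝟙 _)).app W _ = _
  rw [F.map_id]
  rfl

include hF in
/-- (iii) implies (i). -/
theorem isML_of_limOneSh (k : Type u) [Field k] [X.Over (Spec (CommRingCat.of k))]
    [LocallyOfFiniteType (X ↘ Spec (CommRingCat.of k))] [CompactSpace X]
    (hFc : ∀ (n : ℕ) (U : X.Opens), IsAffineOpen U → CG (F.obj (op n)) U)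
    (hCc : ∀ U : X.Opens, IsAffineOpen U → CG (LimSh.limOneSh F) U) : IsML F := by
  intro n
  obtain ⟨N, hN⟩ := stab_of_local (quotTower F n) (isQCoh_quotTower F n hF) fun x ↦ by
    obtain ⟨_, ⟨U : X.Opens, hU, rfl⟩, hxU, -⟩ := X.isBasis_affineOpens.exists_subset_of_mem_open
      (Set.mem_univ x) isOpen_univ
    have hFq : (F.obj (op n)).IsQuasicoherent := hF n
    obtain ⟨φ, hφ⟩ := exists_finiteType k X hU
    have hnoeth : IsNoetherianRing Γ(X, U) := by
      let _ : Algebra k Γ(X, U) := φ.toAlgebra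
      have : Algebra.FiniteType k Γ(X, U) := hφ
      exact Algebra.FiniteType.isNoetherianRing k _
    obtain ⟨Y, hY⟩ := exists_countable_lifts (hCc U hU) (classMap F U)
    obtain ⟨f, hxf, n₀, h⟩ := local_stab k hU x hxU (quotTower F n) (isQCoh_quotTower F n hF)
      (N := Γ(F.obj (op n), U) × (ℕ →₀ Γ(X, U))) (exists_span_prod (hFc n U hU))
      (fun m ↦ (appL (toQuot F n m) U).coprod
        (Finsupp.linearCombination Γ(X, U) fun i ↦ sumT F n U m (Y i)))
      (fun m y ↦ by
        have h1 : ∀ m, Finsupp.linearCombination Γ(X, U) (fun i ↦ sumT F n U m (Y i)) y.2 =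
            sumT F n U m (Finsupp.linearCombination Γ(X, U) Y y.2) := fun m ↦
          (Finsupp.apply_linearCombination _ (sumT F n U m) Y y.2).symm
        rw [LinearMap.coprod_apply, LinearMap.coprod_apply, h1, h1, map_add, tr_sumT]
        congr 1
        exact tr_toQuot_app F n U m y.1)
      (fun m s ↦ by
        obtain ⟨g, hg⟩ := FormalB.FormalLoc.app_surjective_of_epi (toQuot F n m) (hF n)
          (isQCoh_quotTower F n hF m) hU s
        exact ⟨(g, 0), by rw [LinearMap.coprod_apply, map_zero, add_zero]; exact hg⟩)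
      (fun s hs ↦ by
        obtain ⟨y, hy⟩ := exists_sumT_eq F n hF hU s hs
        obtain ⟨c, hc⟩ := hY y
        obtain ⟨W, hW, hxW, w, hw⟩ := exists_local_of_class_eq_zero F n U
          (y - Finsupp.linearCombination Γ(X, U) Y c) (by rw [map_sub, hc, sub_self]) x hxU
        obtain ⟨f, hfW, hxf⟩ := hU.exists_basicOpen_le ⟨x, hxW⟩ hxU
        obtain ⟨r, g, hg⟩ := (loc_of_isQuasicoherent (F.obj (op n)) hU).surj f
          (res (F.obj (op n)) hfW w)
        refine ⟨f, hxf, (g, f ^ r • c), r, fun m ↦ ?_⟩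
        have h1 : Finsupp.linearCombination Γ(X, U) (fun i ↦ sumT F n U m (Y i)) (f ^ r • c) =
            f ^ r • sumT F n U m (Finsupp.linearCombination Γ(X, U) Y c) := by
          rw [map_smul]
          congr 1
          exact (Finsupp.apply_linearCombination _ (sumT F n U m) Y c).symm
        rw [LinearMap.coprod_apply, h1, map_add, appL_apply, ← app_res, hg, app_smul', app_res,
          ← hw m, res_res, res_smul, res_smul, map_pow, ← smul_add, ← map_add, ← map_add,
          sub_add_cancel, hy])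
    exact ⟨X.basicOpen f, hU.basicOpen f, hxf, n₀, h⟩
  refine ⟨n + N, Nat.le_add_right n N, fun m' hm' ↦ ?_⟩
  obtain ⟨b, rfl⟩ : ∃ b, m' = n + b := ⟨m' - n, by omega⟩
  have hNb : N ≤ b := by omega
  have hmono := hN N b le_rfl hNb
  have e1 := (ShortComplex.exact_iff_image_eq_kernel _).1 (exact_toQuot F n N)
  have e2 := (ShortComplex.exact_iff_image_eq_kernel _).1 (exact_toQuot F n b)
  have e3 : toQuot F n b ≫ trL (quotTower F n) hNb = toQuot F n N := by
    clear e1 e2 hmono
    induction b, hNb using Nat.le_induction with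
    | base => rw [trL_refl, Category.comp_id]
    | succ b hb ih =>
      rw [← trL_comp _ hb (Nat.le_succ b), ← Category.assoc, toQuot_tr, ih (by omega)]
  change imageSubobject (trL F (Nat.le_add_right n b)) = imageSubobject (trL F (Nat.le_add_right n N))
  refine e2.trans (Eq.trans ?_ e1.symm)
  change kernelSubobject (toQuot F n b) = kernelSubobject (toQuot F n N)
  rw [← e3, kernelSubobject_comp_mono]

end Main

end K415.TowerSheaf
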