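import Mathlib.AlgebraicGeometry.ZariskisMainTheorem
import Groth.Agent.Coh.K415.QFHeight
import Groth.Agent.CycB.DimIneq

/-!
# Consequences of Zariski's main theorem

* `isIso_fromNormalization`: if `Γ(Y, U)` is integrally closed in `Γ(X, f⁻¹ U)` for all affine `U`.
* `exists_open`: then `f` is an isomorphism over an open `V` with `f⁻¹ V` the quasi-finite locus, and no fibre
  over a point outside `V` has an isolated point.
* `quasiFiniteAt_of_dim_le_one`: `f : X ⟶ Y` locally of finite type, birational, integral schemes, `Y` locally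
  Noetherian: `f` is quasi-finite at the points over points of codimension at most one.
-/

set_option autoImplicit false
universe u

open CategoryTheory CategoryTheory.Limits AlgebraicGeometry

namespace K415.ZMT

variable {X Y : Scheme.{u}} (f : X ⟶ Y)

/-- `Γ(Y, U) → Γ(X, f⁻¹ U)` is injective and integrally closed, for `U` affine. -/
def IntClosedOn : Prop :=
  ∀ U : Y.Opens, IsAffineOpen U → Function.Injective (f.app U) ∧
    ∀ x : Γ(X, f ⁻¹ᵁ U), (f.app U).hom.IsIntegralElem x → x ∈ Set.range (f.app U)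

theorem intClosedOn_of_bijective (hO : ∀ U : Y.Opens, Function.Bijective (f.app U)) :
    IntClosedOn f := fun U _ => ⟨(hO U).1, fun x _ => (hO U).2 x⟩

variable {f}

theorem isIso_fromNormalization [QuasiCompact f] [QuasiSeparated f] (h : IntClosedOn f) :
    IsIso f.fromNormalization := by
  change MorphismProperty.isomorphisms _ f.fromNormalization
  refine (IsZariskiLocalAtTarget.iff_of_iSup_eq_top (P := .isomorphisms _) _
    (iSup_affineOpens_eq_top Y)).mpr fun U => ?_
  change IsIso (f.fromNormalization ∣_ U.1)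
  rw [isIso_morphismRestrict_iff_isIso_app _ U.2, f.fromNormalization_app U.2]
  let _ := (f.app U.1).hom.toAlgebra
  have h1 : Function.Bijective (algebraMap Γ(Y, U.1) (integralClosure Γ(Y, U.1) Γ(X, f ⁻¹ᵁ U.1))) := by
    constructor
    · intro a b hab
      exact (h U.1 U.2).1 (congrArg Subtype.val hab)
    · rintro ⟨x, hx⟩
      obtain ⟨a, ha⟩ := (h U.1 U.2).2 x hx
      exact ⟨a, Subtype.ext ha⟩
  have h2 : IsIso (CommRingCat.ofHom
      (algebraMap Γ(Y, U.1) (integralClosure Γ(Y, U.1) Γ(X, f ⁻¹ᵁ U.1)))) :=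
    (ConcreteCategory.isIso_iff_bijective _).2 h1
  exact IsIso.comp_isIso

theorem isIso_restrict_aux {X Y Z : Scheme.{u}} (f : X ⟶ Z) (g : X ⟶ Y) (h : Y ⟶ Z)
    (e : g ≫ h = f) (V : Z.Opens) [IsIso h] (H : IsIso (g ∣_ (h ⁻¹ᵁ V))) : IsIso (f ∣_ V) := by
  subst e
  rw [morphismRestrict_comp]
  exact IsIso.comp_isIso' H inferInstance

theorem quasiFiniteAt_of_isOpen [LocallyOfFiniteType f] (y : Y) (z : ↥(f.fiber y))
    (h : IsOpen ({z} : Set ↥(f.fiber y))) : f.QuasiFiniteAt (f.fiberι y z) := by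
  have key : ∀ (y : Y) (z : ↥(f.fiber y)) (x : X) (_ : f.fiberι y z = x) (_ : y = f x),
      IsOpen ({z} : Set ↥(f.fiber y)) → f.QuasiFiniteAt x := by
    rintro y z x hx rfl h
    have : z = f.asFiber x := (f.fiberι (f x)).injective (by rw [hx, f.fiberι_asFiber])
    rw [Scheme.Hom.quasiFiniteAt_iff_isOpen_singleton_asFiber, ← this]
    exact h
  refine key y z _ rfl ?_ h
  have : f.fiberι y z ∈ Set.range (f.fiberι y) := ⟨z, rfl⟩
  rw [f.range_fiberι] at this
  exact this.symm

/-- If `Γ(Y, U)` is integrally closed in `Γ(X, f⁻¹ U)` for all affine `U`, then `f` is an isomorphism over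
an open `V` and `f⁻¹ V` is the quasi-finite locus. -/
theorem exists_open [LocallyOfFiniteType f] [IsSeparated f] [QuasiCompact f] (h : IntClosedOn f) :
    ∃ V : Y.Opens, IsIso (f ∣_ V) ∧ (∀ x : X, f x ∈ V ↔ f.QuasiFiniteAt x) ∧
      ∀ y : Y, y ∉ (V : Set Y) → ∀ x : ↥(f.fiber y), ¬ IsOpen ({x} : Set ↥(f.fiber y)) := by
  have h0 := isIso_fromNormalization h
  obtain ⟨U, hU, hU'⟩ := f.exists_isIso_morphismRestrict_toNormalization
  obtain ⟨V, rfl⟩ : ∃ V, U = f.fromNormalization ⁻¹ᵁ V :=
    ⟨f.fromNormalization ''ᵁ U, (f.fromNormalization.preimage_image_eq U).symm⟩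
  have h1 : ∀ x : X, f x ∈ V ↔ f.QuasiFiniteAt x := by
    intro x
    have h2 : x ∈ (f.toNormalization ⁻¹ᵁ f.fromNormalization ⁻¹ᵁ V).1 ↔ f.QuasiFiniteAt x := by
      rw [hU']; rfl
    rw [← h2]
    change _ ↔ f.fromNormalization (f.toNormalization x) ∈ V
    rw [← Scheme.Hom.comp_apply, f.toNormalization_fromNormalization]
  refine ⟨V, isIso_restrict_aux f _ _ f.toNormalization_fromNormalization V hU, h1, ?_⟩
  intro y hy x hx
  have h2 := quasiFiniteAt_of_isOpen y x hx
  rw [← h1] at h2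
  have h3 : f (f.fiberι y x) = y := by
    have : f.fiberι y x ∈ Set.range (f.fiberι y) := ⟨x, rfl⟩
    rw [f.range_fiberι] at this
    exact this
  rw [h3] at h2
  exact hy h2

section Birational

variable [IsIntegral X] [IsIntegral Y]

omit [AlgebraicGeometry.IsIntegral X] [AlgebraicGeometry.IsIntegral Y] in
theorem app_germ {x : X} {U : Y.Opens} {W : X.Opens}
    (e : W ≤ f ⁻¹ᵁ U) (hW : x ∈ W) (hx : f x ∈ U) (a : Γ(Y, U)) :
    (X.presheaf.germ W x hW).hom ((f.appLE U W e).hom a) =
      (f.stalkMap x).hom ((Y.presheaf.germ U (f x) hx).hom a) := by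
  have h1 : Y.presheaf.germ U (f x) hx ≫ f.stalkMap x =
      f.appLE U W e ≫ X.presheaf.germ W x hW := by
    rw [Scheme.Hom.germ_stalkMap, Scheme.Hom.appLE, Category.assoc, X.presheaf.germ_res]
  exact congr($(h1.symm).hom a)

theorem germ_injective {U : Y.Opens} {y : Y} (hy : y ∈ U) :
    Function.Injective (Y.presheaf.germ U y hy).hom := by
  have := germ_injective_of_isIntegral Y y hy
  exact this

theorem appLE_injective
    (hbir : Function.Injective (f.stalkMap (genericPoint ↥X))) {U : Y.Opens} {W : X.Opens}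
    (e : W ≤ f ⁻¹ᵁ U) (hW : genericPoint ↥X ∈ W) : Function.Injective (f.appLE U W e).hom := by
  intro a b hab
  have h1 := congrArg (X.presheaf.germ W (genericPoint ↥X) hW).hom hab
  rw [app_germ e hW (e hW), app_germ e hW (e hW)] at h1
  exact germ_injective _ (hbir h1)

omit [AlgebraicGeometry.IsIntegral Y] in
theorem exists_frac
    (hbir : Function.Bijective (f.stalkMap (genericPoint ↥X))) {U : Y.Opens} (hU : IsAffineOpen U)
    {W : X.Opens} (e : W ≤ f ⁻¹ᵁ U) (hW : genericPoint ↥X ∈ W) (z : Γ(X, W)) :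
    ∃ a b : Γ(Y, U), b ≠ 0 ∧ z * (f.appLE U W e).hom b = (f.appLE U W e).hom a := by
  have hx : f (genericPoint ↥X) ∈ U := e hW
  obtain ⟨t, ht⟩ := hbir.2 ((X.presheaf.germ W (genericPoint ↥X) hW).hom z)
  let _ : Algebra Γ(Y, U) (Y.presheaf.stalk (f (genericPoint ↥X))) :=
    (Y.presheaf.germ U (f (genericPoint ↥X)) hx).hom.toAlgebra
  have h1 : IsLocalization.AtPrime (Y.presheaf.stalk (f (genericPoint ↥X)))
      (hU.primeIdealOf ⟨f (genericPoint ↥X), hx⟩).asIdeal := hU.isLocalization_stalk ⟨_, hx⟩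
  obtain ⟨⟨a, s⟩, has⟩ := IsLocalization.surj
    (hU.primeIdealOf ⟨f (genericPoint ↥X), hx⟩).asIdeal.primeCompl t
  refine ⟨a, s.1, ?_, ?_⟩
  · intro h0
    have := s.2
    rw [h0] at this
    exact this (Ideal.zero_mem _)
  · have h2 : Function.Injective (X.presheaf.germ W (genericPoint ↥X) hW).hom := germ_injective hW
    apply h2
    rw [map_mul, app_germ e hW hx, app_germ e hW hx, ← ht]
    have h3 := congrArg (f.stalkMap (genericPoint ↥X)).hom has
    rw [map_mul] at h3
    exact h3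

/-- A birational morphism locally of finite type of integral schemes is quasi-finite at the points
over points of codimension at most one. -/
theorem quasiFiniteAt_of_dim_le_one [IsLocallyNoetherian Y] [LocallyOfFiniteType f]
    (hbir : Function.Bijective (f.stalkMap (genericPoint ↥X))) (x : X)
    (hx : ringKrullDim (Y.presheaf.stalk (f x)) ≤ 1) : f.QuasiFiniteAt x := by
  obtain ⟨U, hU, hxU, -⟩ := exists_isAffineOpen_mem_and_subset (X := Y) (x := f x) (U := ⊤) trivial
  obtain ⟨W, hW, hxW, e⟩ := exists_isAffineOpen_mem_and_subset (X := X) (x := x) (U := f ⁻¹ᵁ U) hxU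
  replace e : W ≤ f ⁻¹ᵁ U := e
  have hgW : genericPoint ↥X ∈ W :=
    ((genericPoint_spec X).mem_open_set_iff W.isOpen).mpr (by simpa using ⟨_, hxW⟩)
  have : Nonempty U := ⟨⟨_, hxU⟩⟩
  have : Nonempty W := ⟨⟨_, hxW⟩⟩
  have : IsNoetherianRing Γ(Y, U) := IsLocallyNoetherian.component_noetherian ⟨U, hU⟩
  have hft : (f.appLE U W e).hom.FiniteType := f.finiteType_appLE hU hW e
  have hinj := appLE_injective hbir.1 e hgW
  have htd := Groth.Agent.CycB.DimIneq.td_eq_zero (f.appLE U W e).hom
    (fun z => exists_frac hbir hU e hgW z)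
  algebraize [(f.appLE U W e).hom]
  have : FaithfulSMul Γ(Y, U) Γ(X, W) := (faithfulSMul_iff_algebraMap_injective _ _).2 hinj
  let p := (hU.primeIdealOf ⟨f x, hxU⟩).asIdeal
  let q := (hW.primeIdealOf ⟨x, hxW⟩).asIdeal
  have hlo : q.LiesOver p := by
    refine ⟨?_⟩
    ext a
    rw [Ideal.under_def, Ideal.mem_comap]
    have h1 := Groth.Agent.CycB.DimIneq.mem_primeCompl_iff hU (f x) hxU a
    have h2 := Groth.Agent.CycB.DimIneq.mem_primeCompl_iff hW x hxW ((f.appLE U W e).hom a)
    have h3 := Groth.Agent.CycB.DimIneq.evaluation_appLE f U W e x hxW a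
    rw [Ideal.mem_primeCompl_iff, not_iff_not] at h1 h2
    refine h1.trans (Iff.trans ?_ h2.symm)
    rw [← h3]
    exact (map_eq_zero_iff _ (f.residueFieldMap x).hom.injective).symm
  have hp : p.height ≤ 1 := by
    let _ := Y.presheaf.algebra_section_stalk ⟨f x, hxU⟩
    have h1 : IsLocalization.AtPrime (Y.presheaf.stalk (f x)) p := hU.isLocalization_stalk ⟨_, hxU⟩
    have h2 := IsLocalization.AtPrime.ringKrullDim_eq_height p (Y.presheaf.stalk (f x))
    rw [h2] at hx
    exact_mod_cast hx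
  have hq : Algebra.QuasiFiniteAt Γ(Y, U) q := QFHeight.quasiFiniteAt htd p hp q
  refine .of_comp (g := (Y.presheaf.germ U _ hxU).hom) ?_
  rw [← CommRingCat.hom_comp, f.germ_stalkMap, ← X.presheaf.germ_res (homOfLE e) _ hxW,
    Scheme.Hom.app_eq_appLE, Scheme.Hom.appLE_map_assoc, CommRingCat.hom_comp]
  have h1 := hW.isLocalization_stalk ⟨x, hxW⟩
  let _ := X.presheaf.algebra_section_stalk ⟨x, hxW⟩
  have h2 : Algebra.QuasiFinite Γ(Y, U) (Localization.AtPrime q) := hq
  let e' : Localization.AtPrime q ≃ₐ[Γ(X, W)] X.presheaf.stalk x :=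
    IsLocalization.algEquiv q.primeCompl _ _
  have h3 : (algebraMap Γ(Y, U) (Localization.AtPrime q)).QuasiFinite :=
    RingHom.quasiFinite_algebraMap.mpr h2
  have h4 := (RingHom.QuasiFinite.of_finite e'.toRingEquiv.finite).comp h3
  convert! h4
  ext a
  change (X.presheaf.germ W x hxW).hom ((f.appLE U W e).hom a) =
    e' (algebraMap Γ(X, W) (Localization.AtPrime q) (algebraMap Γ(Y, U) Γ(X, W) a))
  rw [e'.commutes]
  rfl

end Birational

end K415.ZMT
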